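import Cfsg.Agent.Lib.PGV.Reduce
import Cfsg.Agent.Lib.ZJ.Replacement

/-!
Timmesfeld's replacement: a best offender contains a nontrivial quadratic best offender.
-/

set_option autoImplicit false

namespace CfsgLib.PGV

universe v

variable {p : ℕ} [Fact p.Prime] {V : Type v} [AddCommGroup V] [Module (ZMod p) V] [Finite V]

/-- The span of the fixed space of `A` and of `[V, A]`. -/
def comSpace (A : Subgroup (Module.End (ZMod p) V)ˣ) : Submodule (ZMod p) V :=
  fixSpace A ⊔ ⨆ a : ↥A, LinearMap.range (((a : (Module.End (ZMod p) V)ˣ) : Module.End (ZMod p) V) - 1)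

omit [Finite V] in
theorem sub_one_commute {a b : (Module.End (ZMod p) V)ˣ} (h : a * b = b * a) :
    Commute ((a : Module.End (ZMod p) V) - 1) ((b : Module.End (ZMod p) V) - 1) :=
  ((show Commute (a : Module.End (ZMod p) V) (b : Module.End (ZMod p) V) from congrArg Units.val h).sub_right
    (Commute.one_right _)).sub_left (Commute.one_left _)

theorem sub_one_pow_prime {a : (Module.End (ZMod p) V)ˣ} (h : a ^ p = 1) :
    ((a : Module.End (ZMod p) V) - 1) ^ p = 0 := by
  rcases subsingleton_or_nontrivial V with hV | hV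
  · exact LinearMap.ext fun v => Subsingleton.elim _ _
  haveI : CharP (Module.End (ZMod p) V) p :=
    charP_of_injective_algebraMap (algebraMap (ZMod p) (Module.End (ZMod p) V)).injective p
  rw [sub_pow_char_of_commute _ (Commute.one_right _), one_pow, ← Units.val_pow_eq_pow_val, h, Units.val_one,
    sub_self]

/-- `V = C(A) + [V,A]` only for trivial `A`. -/
theorem eq_bot_of_comSpace_top {A : Subgroup (Module.End (ZMod p) V)ˣ} (hcomm : ∀ a ∈ A, ∀ b ∈ A, a * b = b * a)
    (hexp : ∀ a ∈ A, a ^ p = 1) (h : comSpace A = ⊤) : A = ⊥ := by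
  classical
  let d : ↥A → Module.End (ZMod p) V := fun a => ((a : (Module.End (ZMod p) V)ˣ) : Module.End (ZMod p) V) - 1
  set M := ⨆ a : ↥A, LinearMap.range (d a) with hM
  have hcd : ∀ a b : ↥A, d a * d b = d b * d a := fun a b => (sub_one_commute (hcomm a a.2 b b.2)).eq
  have hMinv : ∀ j : ↥A, M.map (d j) ≤ M := fun j =>
    (LinearMap.map_le_range).trans (le_iSup (fun a => LinearMap.range (d a)) j)
  have h1 : M ≤ ⨆ a : ↥A, M.map (d a) := by
    refine iSup_le fun a => ?_
    rintro _ ⟨v, rfl⟩
    obtain ⟨w, hw, m, hm, rfl⟩ := Submodule.mem_sup.mp (show v ∈ comSpace A from h ▸ Submodule.mem_top)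
    refine Submodule.mem_iSup_of_mem a ⟨m, hm, ?_⟩
    show d a m = d a (w + m)
    rw [map_add, show d a w = 0 by simp [d, hw a a.2], zero_add]
  letI := Fintype.ofFinite ↥A
  have key : ∀ T : Finset ↥A, M ≤ ⨆ a ∈ (Finset.univ \ T), M.map (d a) := by
    intro T
    induction T using Finset.induction with
    | empty => simpa using h1
    | @insert j T _ ih =>
      set R := ⨆ a ∈ (Finset.univ \ insert j T), M.map (d a) with hR
      have hRj : R.map (d j) ≤ R := by
        rw [hR, Submodule.map_iSup]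
        refine iSup_le fun a => ?_
        rw [Submodule.map_iSup]
        refine iSup_le fun ha => ?_
        refine le_trans ?_ (le_iSup₂ (f := fun a (_ : a ∈ Finset.univ \ insert j T) => M.map (d a)) a ha)
        rw [← Submodule.map_comp]
        rintro _ ⟨m, hm, rfl⟩
        refine ⟨d j m, hMinv j ⟨m, hm, rfl⟩, ?_⟩
        rw [← Module.End.mul_apply, hcd]; rfl
      have h2 : M ≤ M.map (d j) ⊔ R := by
        refine ih.trans (iSup₂_le fun a ha => ?_)
        by_cases haj : a = j
        · subst haj; exact le_sup_left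
        · refine le_trans ?_ le_sup_right
          exact le_iSup₂ (f := fun a (_ : a ∈ Finset.univ \ insert j T) => M.map (d a)) a (by
            simp only [Finset.mem_sdiff, Finset.mem_univ, Finset.mem_insert, true_and] at ha ⊢
            tauto)
      have h3 : ∀ n, M ≤ M.map ((d j) ^ n) ⊔ R := by
        intro n
        induction n with
        | zero =>
          intro m hm
          exact Submodule.mem_sup_left ⟨m, hm, by simp⟩
        | succ n ihn =>
          refine h2.trans (sup_le ((Submodule.map_mono ihn).trans ?_) le_sup_right)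
          rw [Submodule.map_sup, ← Submodule.map_comp, ← Module.End.mul_eq_comp, ← pow_succ']
          exact sup_le_sup_left hRj _
      refine (h3 p).trans (sup_le ?_ le_rfl)
      rw [sub_one_pow_prime (hexp j j.2)]
      simp
  have hbot : M = ⊥ := by simpa using key Finset.univ
  rw [Subgroup.eq_bot_iff_forall]
  intro a ha
  refine Units.ext (sub_eq_zero.mp (LinearMap.range_eq_bot.mp ?_))
  exact eq_bot_iff.mpr (hbot ▸ le_iSup (fun a => LinearMap.range (d a)) ⟨a, ha⟩)

/-- Timmesfeld's replacement theorem. -/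
theorem replacement {A : Subgroup (Module.End (ZMod p) V)ˣ} (hcomm : ∀ a ∈ A, ∀ b ∈ A, a * b = b * a)
    (hexp : ∀ a ∈ A, a ^ p = 1) (hP : Best A) (hne : A ≠ ⊥) :
    ∃ C ≤ A, C ≠ ⊥ ∧ Best C ∧ ∀ a ∈ A, ∀ c ∈ C,
      ((c : Module.End (ZMod p) V) - 1) * ((a : Module.End (ZMod p) V) - 1) = 0 := by
  classical
  set m := Nat.card ↥A * Nat.card ↥(fixSpace A) with hm
  let B : V → Subgroup (Module.End (ZMod p) V)ˣ := fun v =>
    { carrier := {b | b ∈ A ∧ ∀ a ∈ A,
        (((b : Module.End (ZMod p) V) - 1) * ((a : Module.End (ZMod p) V) - 1)) v = 0}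
      one_mem' := ⟨one_mem A, fun a _ => by simp⟩
      mul_mem' := fun {b c} hb hc => ⟨mul_mem hb.1 hc.1, fun a ha => by
        rw [Units.val_mul, show (b : Module.End (ZMod p) V) * c - 1 =
          (b : Module.End (ZMod p) V) * ((c : Module.End (ZMod p) V) - 1) + ((b : Module.End (ZMod p) V) - 1) by noncomm_ring,
          add_mul, mul_assoc, LinearMap.add_apply, Module.End.mul_apply, hc.2 a ha, hb.2 a ha, map_zero, add_zero]⟩
      inv_mem' := fun {b} hb => ⟨inv_mem hb.1, fun a ha => by
        rw [show ((b⁻¹ : _) : (Module.End (ZMod p) V)ˣ).val - 1 =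
          -(((b⁻¹ : _) : (Module.End (ZMod p) V)ˣ).val * ((b : Module.End (ZMod p) V) - 1)) by
            rw [mul_sub, Units.inv_mul, mul_one, neg_sub],
          neg_mul, mul_assoc, LinearMap.neg_apply, Module.End.mul_apply, hb.2 a ha, map_zero, neg_zero]⟩ }
  let Good : Subgroup (Module.End (ZMod p) V)ˣ → Prop := fun C =>
    C ≤ A ∧ m ≤ Nat.card ↥C * Nat.card ↥(fixSpace C) ∧ fixSpace C ≤ comSpace A
  have hB : ∀ v, Good (B v) := by
    intro v
    have hle : B v ≤ A := fun b hb => hb.1
    set S := (B v).subgroupOf A with hS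
    have hinfix : ∀ q : ↥A ⧸ S, (((q.out : (Module.End (ZMod p) V)ˣ) : Module.End (ZMod p) V) - 1) v ∈ fixSpace (B v) := by
      intro q b hb
      have := hb.2 _ q.out.2
      rwa [Module.End.mul_apply, LinearMap.sub_apply, Module.End.one_apply, sub_eq_zero] at this
    let f : (↥A ⧸ S) × ↥(fixSpace A) → ↥(fixSpace (B v)) := fun qw =>
      ⟨(((qw.1.out : (Module.End (ZMod p) V)ˣ) : Module.End (ZMod p) V) - 1) v + qw.2,
        add_mem (hinfix qw.1) (fixSpace_anti hle qw.2.2)⟩
    have hf : Function.Injective f := by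
      rintro ⟨q, w⟩ ⟨q', w'⟩ h
      have h' := congrArg (fun z : ↥(fixSpace (B v)) => (z : V)) h
      have hq : q = q' := by
        rw [← q.out_eq', ← q'.out_eq', QuotientGroup.eq]
        refine Subgroup.mem_subgroupOf.mpr ⟨(q.out⁻¹ * q'.out).2, fun g hg => ?_⟩
        set a := (q.out : (Module.End (ZMod p) V)ˣ)
        set a' := (q'.out : (Module.End (ZMod p) V)ˣ)
        have haA : a ∈ A := q.out.2
        have ha'A : a' ∈ A := q'.out.2
        set γ := (g : Module.End (ZMod p) V) - 1 with hγ
        have hfix0 : ∀ u : ↥(fixSpace A), γ (u : V) = 0 := fun u => by simp [hγ, u.2 g hg]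
        have h1 : γ (((a : Module.End (ZMod p) V) - 1) v) = γ (((a' : Module.End (ZMod p) V) - 1) v) := by
          have := congrArg γ h'
          simpa [f, map_add, hfix0] using this
        show ((((a⁻¹ * a' : _) : (Module.End (ZMod p) V)ˣ) : Module.End (ZMod p) V) - 1) (γ v) = 0
        rw [← Module.End.mul_apply, (sub_one_commute (hcomm _ (mul_mem (inv_mem haA) ha'A) g hg)).eq,
          Module.End.mul_apply]
        have e : (a' : Module.End (ZMod p) V) - 1 = ((a : Module.End (ZMod p) V) - 1) +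
            (a : Module.End (ZMod p) V) * ((((a⁻¹ * a' : _) : (Module.End (ZMod p) V)ˣ) : Module.End (ZMod p) V) - 1) := by
          rw [mul_sub, ← Units.val_mul, mul_inv_cancel_left, mul_one]; abel
        rw [e, LinearMap.add_apply, map_add, left_eq_add, Module.End.mul_apply, ← Module.End.mul_apply,
          show γ * (a : Module.End (ZMod p) V) = a * γ from
            ((show Commute (g : Module.End (ZMod p) V) (a : Module.End (ZMod p) V) from
              congrArg Units.val (hcomm g hg a haA)).sub_left (Commute.one_left _)).eq,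
          Module.End.mul_apply] at h1
        have := congrArg ((((a⁻¹ : _) : (Module.End (ZMod p) V)ˣ)) : Module.End (ZMod p) V) h1
        rwa [← Module.End.mul_apply, Units.inv_mul, Module.End.one_apply, map_zero] at this
      subst hq
      exact Prod.ext rfl (Subtype.ext (add_left_cancel h'))
    have hcard := Nat.card_le_card_of_injective f hf
    have hS' : Nat.card ↥A = Nat.card (↥A ⧸ S) * Nat.card ↥(B v) := by
      rw [Subgroup.card_eq_card_quotient_mul_card_subgroup S, hS,
        Nat.card_congr (Subgroup.subgroupOfEquivOfLe hle).toEquiv]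
    rw [Nat.card_prod] at hcard
    have hge : m ≤ Nat.card ↥(B v) * Nat.card ↥(fixSpace (B v)) := by
      rw [hm, hS', mul_comm (Nat.card (↥A ⧸ S)), mul_assoc]
      exact Nat.mul_le_mul_left _ hcard
    have hsurj : Function.Surjective f := by
      refine ((Nat.bijective_iff_injective_and_card f).mpr ⟨hf, ?_⟩).2
      have h2 := hP (B v) hle
      rw [Nat.card_prod]
      refine le_antisymm hcard (Nat.le_of_mul_le_mul_left (h2.trans ?_) (Nat.card_pos (α := ↥(B v))))
      rw [hS', mul_comm (Nat.card (↥A ⧸ S)), mul_assoc]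
    refine ⟨hle, hge, fun w hw => ?_⟩
    obtain ⟨⟨q, u⟩, hqu⟩ := hsurj ⟨w, hw⟩
    rw [← show _ = w from congrArg Subtype.val hqu]
    exact add_mem (Submodule.mem_sup_right (Submodule.mem_iSup_of_mem q.out ⟨v, rfl⟩)) (Submodule.mem_sup_left u.2)
  have hinf : ∀ B1 B2, Good B1 → Good B2 → Good (B1 ⊓ B2) := by
    rintro B1 B2 ⟨hl1, hm1, ht1⟩ ⟨hl2, hm2, ht2⟩
    have hnorm : B2 ≤ Subgroup.normalizer (B1 : Set (Module.End (ZMod p) V)ˣ) := fun g hg =>
      Subgroup.mem_normalizer_iff.mpr fun x => by
        constructor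
        · intro hx; rw [hcomm g (hl2 hg) x (hl1 hx), mul_inv_cancel_right]; exact hx
        · intro hx
          have := hcomm g (hl2 hg) _ (hl1 hx)
          rw [show g * x * g⁻¹ * g = g * x by group] at this
          rw [show x = g * x * g⁻¹ from mul_left_cancel this.symm]; exact hx
    have hg := CfsgLib.ZJ.card_mul_eq_of_le_normalizer hnorm
    have hf : Nat.card ↥(fixSpace B1) * Nat.card ↥(fixSpace B2) =
        Nat.card ↥(fixSpace B1 ⊔ fixSpace B2) * Nat.card ↥(fixSpace B1 ⊓ fixSpace B2) := by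
      rw [Module.natCard_eq_pow_finrank (K := ZMod p) (V := ↥(fixSpace B1)),
        Module.natCard_eq_pow_finrank (K := ZMod p) (V := ↥(fixSpace B2)),
        Module.natCard_eq_pow_finrank (K := ZMod p) (V := ↥(fixSpace B1 ⊔ fixSpace B2)),
        Module.natCard_eq_pow_finrank (K := ZMod p) (V := ↥(fixSpace B1 ⊓ fixSpace B2)),
        ← pow_add, ← pow_add, Submodule.finrank_sup_add_finrank_inf_eq]
    have hfsup : fixSpace B1 ⊓ fixSpace B2 ≤ fixSpace (B1 ⊔ B2) := by
      intro v hv
      let St : Subgroup (Module.End (ZMod p) V)ˣ :=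
        { carrier := {g | (g : Module.End (ZMod p) V) v = v}
          one_mem' := by simp
          mul_mem' := fun {g h} (hg : (g : Module.End (ZMod p) V) v = v) (hh : (h : Module.End (ZMod p) V) v = v) => by
            show ((g * h : _) : (Module.End (ZMod p) V)ˣ).val v = v
            rw [Units.val_mul, Module.End.mul_apply, hh, hg]
          inv_mem' := fun {g} hg => by
            show ((g⁻¹ : _) : (Module.End (ZMod p) V)ˣ).val v = v
            conv_lhs => rw [← (hg : (g : Module.End (ZMod p) V) v = v)]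
            rw [← Module.End.mul_apply, Units.inv_mul, Module.End.one_apply] }
      exact fun g hg => (sup_le (fun x hx => hv.1 x hx) (fun x hx => hv.2 x hx) : B1 ⊔ B2 ≤ St) hg
    have h1 : Nat.card ↥(B1 ⊔ B2) * Nat.card ↥(fixSpace B1 ⊓ fixSpace B2) ≤ m :=
      (Nat.mul_le_mul_left _ (Nat.card_mono (Set.toFinite _) hfsup)).trans (hP _ (sup_le hl1 hl2))
    have hsle : fixSpace B1 ⊔ fixSpace B2 ≤ fixSpace (B1 ⊓ B2) :=
      sup_le (fixSpace_anti inf_le_left) (fixSpace_anti inf_le_right)
    have h2 := hP (B1 ⊓ B2) (inf_le_left.trans hl1)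
    have h3 : m * m ≤ m * (Nat.card ↥(B1 ⊓ B2) * Nat.card ↥(fixSpace B1 ⊔ fixSpace B2)) :=
      calc m * m ≤ (Nat.card ↥B1 * Nat.card ↥(fixSpace B1)) * (Nat.card ↥B2 * Nat.card ↥(fixSpace B2)) :=
            Nat.mul_le_mul hm1 hm2
        _ = (Nat.card ↥(B1 ⊔ B2) * Nat.card ↥(fixSpace B1 ⊓ fixSpace B2)) *
            (Nat.card ↥(B1 ⊓ B2) * Nat.card ↥(fixSpace B1 ⊔ fixSpace B2)) := by
          rw [mul_mul_mul_comm, hg, hf]; ring
        _ ≤ _ := Nat.mul_le_mul_right _ h1
    have hmpos : 0 < m := mul_pos Nat.card_pos Nat.card_pos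
    have h4 := Nat.le_of_mul_le_mul_left h3 hmpos
    have h5 : m ≤ Nat.card ↥(B1 ⊓ B2) * Nat.card ↥(fixSpace (B1 ⊓ B2)) :=
      h4.trans (Nat.mul_le_mul_left _ (Nat.card_mono (Set.toFinite _) hsle))
    refine ⟨inf_le_left.trans hl1, h5, ?_⟩
    have h6 : Nat.card ↥(fixSpace (B1 ⊓ B2)) ≤ Nat.card ↥(fixSpace B1 ⊔ fixSpace B2) :=
      Nat.le_of_mul_le_mul_left (h2.trans h4) Nat.card_pos
    have heq : fixSpace B1 ⊔ fixSpace B2 = fixSpace (B1 ⊓ B2) :=
      SetLike.coe_injective (Set.eq_of_subset_of_ncard_le hsle (by rw [← Nat.card_coe_set_eq, ← Nat.card_coe_set_eq]; exact h6) (Set.toFinite _))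
    rw [← heq]; exact sup_le ht1 ht2
  letI := Fintype.ofFinite V
  have key : ∀ T : Finset V, Good (A ⊓ T.inf B) := by
    intro T
    induction T using Finset.induction with
    | empty => exact ⟨inf_le_left, by simp [hm], by rw [Finset.inf_empty, inf_top_eq]; exact le_sup_left⟩
    | @insert v T _ ih =>
      have := hinf _ _ (hB v) ih
      rwa [Finset.inf_insert, inf_left_comm]
  obtain ⟨hle, hmC, htC⟩ := key Finset.univ
  refine ⟨A ⊓ Finset.univ.inf B, hle, ?_, ?_, ?_⟩
  · intro hbot
    refine hne (eq_bot_of_comSpace_top hcomm hexp ?_)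
    rw [eq_top_iff]
    refine le_trans ?_ htC
    rw [hbot]
    intro v _ g hg
    rw [Subgroup.mem_bot.mp hg]; simp
  · exact fun D hD => (hP D (hD.trans hle)).trans hmC
  · intro a ha c hc
    exact LinearMap.ext fun v => ((Finset.inf_le (Finset.mem_univ v) : Finset.univ.inf B ≤ B v) hc.2).2 a ha

end CfsgLib.PGV
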