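import Cfsg.Agent.Lib.Basic
import Cfsg.Agent.Lib.CharTheory.Burnside

/-!
Basics for the `P(G,V)`-theorem: a configuration of an elementary abelian group `A` permuting a
quasisimple group `K`, and semisimplicity of abelian `p'`-groups of linear maps.
-/

set_option autoImplicit false

namespace CfsgLib.PGV

open scoped commutatorElement

universe v

/-- `K` is perfect, its proper normal subgroups are central, `A` is elementary abelian and moves `K`
to commuting copies. -/
structure Conf {U : Type v} [Group U] (p : ℕ) (A K : Subgroup U) : Prop where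
  comm : ∀ a ∈ A, ∀ b ∈ A, a * b = b * a
  exp : ∀ a ∈ A, a ^ p = 1
  perfect : ⁅K, K⁆ = K
  ne : K ≠ ⊥
  norm : ∀ N : Subgroup U, N ≤ K → (∀ k ∈ K, ∀ n ∈ N, k * n * k⁻¹ ∈ N) → N = K ∨ ∀ n ∈ N, ∀ k ∈ K, n * k = k * n
  dich : ∀ g ∈ A, g ∈ Subgroup.normalizer (K : Set U) ∨ ∀ x ∈ K, ∀ y ∈ K, g * x * g⁻¹ * y = y * (g * x * g⁻¹)
  moves : ∃ a ∈ A, a ∉ Subgroup.normalizer (K : Set U)

section Group

variable {U : Type v} [Group U] [Finite U] {p : ℕ} {A K : Subgroup U}

theorem mem_normalizer_of_conj_mem {g : U} (h : ∀ x ∈ K, g * x * g⁻¹ ∈ K) :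
    g ∈ Subgroup.normalizer (K : Set U) := by
  refine Subgroup.mem_normalizer_iff.mpr fun x => ⟨h x, fun hx => ?_⟩
  have hinj : Function.Injective (fun y : ↥K => (⟨g * y * g⁻¹, h y y.2⟩ : ↥K)) := fun a b hab =>
    Subtype.ext (mul_left_cancel (mul_right_cancel (congrArg Subtype.val hab)))
  obtain ⟨y, hy⟩ := (Finite.injective_iff_surjective.mp hinj) ⟨_, hx⟩
  have := mul_left_cancel (mul_right_cancel (congrArg Subtype.val hy))
  exact this ▸ y.2

theorem perfect_ne_of_solvable (hK : ⁅K, K⁆ = K) (hne : K ≠ ⊥) : ¬ Group.IsSolvable ↥K := by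
  intro h
  haveI : Nontrivial ↥K := (Subgroup.nontrivial_iff_ne_bot K).mpr hne
  haveI : Group.IsPerfect ↥K := by
    refine ⟨?_⟩
    apply Subgroup.map_injective K.subtype_injective
    rw [commutator_def, Subgroup.map_commutator, ← MonoidHom.range_eq_map, Subgroup.range_subtype, hK]
  exact Group.IsPerfect.not_isSolvable ↥K h

variable (hc : Conf p A K)
include hc

theorem Conf.not_abelian : ¬ ∀ x ∈ K, ∀ y ∈ K, x * y = y * x := by
  intro h
  refine hc.ne ?_
  rw [← hc.perfect, eq_bot_iff, Subgroup.commutator_le]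
  intro x hx y hy
  rw [Subgroup.mem_bot, commutatorElement_eq_one_iff_mul_comm]
  exact h x hx y hy

omit [Finite U] in
theorem Conf.commutes {g : U} (hg : g ∈ A) (hn : g ∉ Subgroup.normalizer (K : Set U)) :
    ∀ x ∈ K, ∀ y ∈ K, g * x * g⁻¹ * y = y * (g * x * g⁻¹) :=
  (hc.dich g hg).resolve_left hn

/-- The common part of `K` and a moved copy is central in `K`. -/
theorem Conf.central_of_fixed {g : U} (hg : g ∈ A) (hn : g ∉ Subgroup.normalizer (K : Set U))
    {k : U} (hk : k ∈ K) (hfix : g * k * g⁻¹ = k) : ∀ y ∈ K, k * y = y * k := fun y hy => by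
  have := hc.commutes hg hn k hk y hy
  rwa [hfix] at this

/-- A normal `r`-subgroup of `K` is central. -/
theorem Conf.pgroup_central {r : ℕ} [Fact r.Prime] (N : Subgroup U) (hle : N ≤ K)
    (hn : ∀ k ∈ K, ∀ n ∈ N, k * n * k⁻¹ ∈ N) (hp : IsPGroup r ↥N) : ∀ n ∈ N, ∀ k ∈ K, n * k = k * n := by
  rcases hc.norm N hle hn with h | h
  · rw [h] at hp
    haveI := hp.isNilpotent
    exact absurd (inferInstance : Group.IsSolvable ↥K) (perfect_ne_of_solvable hc.perfect hc.ne)
  · exact h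

/-- If `b` moves every element of `K` by a central element, it centralizes `K`. -/
theorem Conf.centralize_of_central {b : U} (hb : b ∈ Subgroup.normalizer (K : Set U))
    (h : ∀ x ∈ K, ∀ y ∈ K, (b * x * b⁻¹ * x⁻¹) * y = y * (b * x * b⁻¹ * x⁻¹)) :
    ∀ x ∈ K, b * x = x * b := by
  have hmem : ∀ x ∈ K, b * x * b⁻¹ * x⁻¹ ∈ K := fun x hx =>
    mul_mem ((Subgroup.mem_normalizer_iff.mp hb x).mp hx) (inv_mem hx)
  have key : ⁅K, K⁆ ≤ K ⊓ Subgroup.centralizer {b} := by
    rw [Subgroup.commutator_le]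
    intro x hx y hy
    have hxy : ⁅x, y⁆ ∈ K := by
      simpa [commutatorElement_def] using mul_mem (mul_mem (mul_mem hx hy) (inv_mem hx)) (inv_mem hy)
    refine ⟨hxy, Subgroup.mem_centralizer_singleton_iff.mpr (Eq.symm ?_)⟩
    set z := b * x * b⁻¹ * x⁻¹ with hz
    set w := b * y * b⁻¹ * y⁻¹ with hw
    have hzx : Commute z x := h x hx x hx
    have hzy : Commute z y := h x hx y hy
    have hzw : Commute z w := h x hx w (hmem y hy)
    have hwx : Commute w x := h y hy x hx
    rw [← mul_inv_eq_iff_eq_mul]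
    calc b * ⁅x, y⁆ * b⁻¹ = ⁅b * x * b⁻¹, b * y * b⁻¹⁆ := by simp only [commutatorElement_def]; group
      _ = ⁅z * x, w * y⁆ := by rw [hz, hw]; group
      _ = z * (x * w) * y * x⁻¹ * z⁻¹ * (y⁻¹ * w⁻¹) := by simp only [commutatorElement_def]; group
      _ = z * (w * x) * y * x⁻¹ * z⁻¹ * (y⁻¹ * w⁻¹) := by rw [hwx.eq]
      _ = z * w * (x * y * x⁻¹ * z⁻¹) * (y⁻¹ * w⁻¹) := by group
      _ = z * w * (z⁻¹ * (x * y * x⁻¹)) * (y⁻¹ * w⁻¹) := by
        rw [((hzx.mul_right hzy).mul_right hzx.inv_right).inv_left.eq]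
      _ = w * (x * y * x⁻¹ * y⁻¹) * w⁻¹ := by rw [hzw.eq]; group
      _ = ⁅x, y⁆ := by
        rw [← commutatorElement_def, mul_inv_eq_iff_eq_mul]
        exact h y hy _ hxy
  rw [hc.perfect] at key
  exact fun x hx => (Subgroup.mem_centralizer_singleton_iff.mp (key hx).2).symm

/-- If every element of `K` is, modulo the center, in a group of solvable shape, `K` would be solvable. -/
theorem Conf.not_solvable_quotient : ¬ Group.IsSolvable (↥K ⧸ Subgroup.center ↥K) := fun h => by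
  refine perfect_ne_of_solvable hc.perfect hc.ne ?_
  haveI : Group.IsSolvable ↥(Subgroup.center ↥K) :=
    Group.isSolvable_of_comm fun a b => Subtype.ext ((Subgroup.mem_center_iff.mp b.2 a.1))
  exact (Group.isSolvable_iff_subgroup_quotient (Subgroup.center ↥K)).mpr ⟨inferInstance, h⟩

theorem qpart_noncentral {q : ℕ} [Fact q.Prime] (hd : q ∣ Nat.card (↥K ⧸ Subgroup.center ↥K)) :
    ∃ k ∈ K, (∃ j, orderOf k = q ^ j) ∧ ¬ ∀ y ∈ K, k * y = y * k := by
  obtain ⟨c, hcq⟩ := exists_prime_orderOf_dvd_card' q hd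
  obtain ⟨x, rfl⟩ := QuotientGroup.mk'_surjective (Subgroup.center ↥K) c
  have hq : q.Prime := Fact.out
  have hn : orderOf x ≠ 0 := (orderOf_pos x).ne'
  set s := orderOf x / q ^ (orderOf x).factorization q with hs
  have hord : orderOf (x ^ s) = q ^ (orderOf x).factorization q := by
    rw [orderOf_pow' x (Nat.ordCompl_pos q hn).ne', Nat.gcd_eq_right (Nat.ordCompl_dvd _ _),
      Nat.div_div_self (Nat.ordProj_dvd _ _) hn]
  refine ⟨((x ^ s : ↥K) : U), (x ^ s).2, ⟨_, by rw [Subgroup.orderOf_coe, hord]⟩, fun hcen => ?_⟩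
  have hmem : x ^ s ∈ Subgroup.center ↥K := Subgroup.mem_center_iff.mpr fun y => Subtype.ext (hcen y y.2).symm
  have h1 : (QuotientGroup.mk' (Subgroup.center ↥K) x) ^ s = 1 := by
    rw [← map_pow]; exact (QuotientGroup.eq_one_iff _).mpr hmem
  rw [← orderOf_dvd_iff_pow_eq_one, hcq] at h1
  exact Nat.not_dvd_ordCompl hq hn h1

theorem Conf.exists_coprime (p' : ℕ) [Fact p'.Prime] :
    ∃ (q : ℕ) (k : U), q.Prime ∧ q ≠ p' ∧ k ∈ K ∧ (∃ j, orderOf k = q ^ j) ∧ ¬ ∀ y ∈ K, k * y = y * k := by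
  by_contra hcon
  push Not at hcon
  refine hc.not_solvable_quotient ?_
  have hp : IsPGroup p' (↥K ⧸ Subgroup.center ↥K) := by
    refine IsPGroup.of_card (n := (Nat.card (↥K ⧸ Subgroup.center ↥K)).primeFactorsList.length)
      (Nat.eq_prime_pow_of_unique_prime_dvd Nat.card_pos.ne' fun {q} hq hd => ?_)
    by_contra hne
    haveI := Fact.mk hq
    obtain ⟨k, hk, ⟨j, hj⟩, hnc⟩ := qpart_noncentral hc hd
    obtain ⟨y, hy, hne'⟩ := not_forall₂.mp hnc
    exact hne' (hcon q k hq hne hk ⟨j, hj⟩ y hy)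
  haveI := hp.isNilpotent
  infer_instance

theorem Conf.exists_large :
    ∃ (q : ℕ) (k : U), q.Prime ∧ 5 ≤ q ∧ k ∈ K ∧ (∃ j, orderOf k = q ^ j) ∧ ¬ ∀ y ∈ K, k * y = y * k := by
  by_contra hcon
  push Not at hcon
  refine hc.not_solvable_quotient ?_
  set n := Nat.card (↥K ⧸ Subgroup.center ↥K) with hn
  have h23 : ∀ q, q.Prime → q ∣ n → q = 2 ∨ q = 3 := by
    intro q hq hd
    by_contra hne
    haveI := Fact.mk hq
    obtain ⟨k, hk, ⟨j, hj⟩, hnc⟩ := qpart_noncentral hc hd
    obtain ⟨y, hy, hne'⟩ := not_forall₂.mp hnc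
    refine hne' (hcon q k hq ?_ hk ⟨j, hj⟩ y hy)
    have := hq.two_le
    rcases Nat.lt_or_ge q 5 with h | h
    · exfalso; interval_cases q <;> simp_all (config := { decide := true })
    · exact h
  refine CfsgLib.CharTheory.isSolvable_of_card_two_primes (a := n.factorization 2) (b := n.factorization 3)
    Nat.prime_two Nat.prime_three ?_
  refine Nat.eq_of_factorization_eq Nat.card_pos.ne' (by positivity) fun r => ?_
  rw [Nat.factorization_mul (by positivity) (by positivity), Nat.prime_two.factorization_pow,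
    Nat.prime_three.factorization_pow, Finsupp.add_apply, Finsupp.single_apply, Finsupp.single_apply]
  by_cases hr : r.Prime ∧ r ∣ n
  · rcases h23 r hr.1 hr.2 with rfl | rfl <;> simp [hn]
  · have h0 : n.factorization r = 0 := by
      rw [Nat.factorization_eq_zero_iff]; tauto
    rw [← hn, h0]
    split_ifs with h2 h3 h3
    · omega
    · subst h2; omega
    · subst h3; omega
    · rfl

end Group

end CfsgLib.PGV
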