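import Cfsg.Agent.Lib.PGV.Semi

/-!
Reductions for the `P(G,V)`-theorem: passing to the fixed space of an element centralizing `K`, and
folding `K` along an element moving it.
-/

set_option autoImplicit false

namespace CfsgLib.PGV

open scoped commutatorElement

universe v

variable {p : ℕ} [Fact p.Prime]

/-- `A` is a best offender. -/
def Best {V : Type v} [AddCommGroup V] [Module (ZMod p) V] (A : Subgroup (Module.End (ZMod p) V)ˣ) : Prop :=
  ∀ B ≤ A, Nat.card ↥B * Nat.card ↥(fixSpace B) ≤ Nat.card ↥A * Nat.card ↥(fixSpace A)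

/-- No configuration with a smaller group exists. -/
def Below (p : ℕ) [Fact p.Prime] (n : ℕ) : Prop :=
  ∀ (W : Type v) [AddCommGroup W] [Module (ZMod p) W] [Finite W] (A K : Subgroup (Module.End (ZMod p) W)ˣ),
    Nat.card ↥A < n → Conf p A K → Best A → False

theorem isPGroup_of_exp {U : Type v} [Group U] {A : Subgroup U} (h : ∀ a ∈ A, a ^ p = 1) : IsPGroup p ↥A :=
  fun g => ⟨1, Subtype.ext (by rw [pow_one]; exact h g g.2)⟩

section Fold

variable {U : Type v} [Group U]

theorem pow_notMem {A K : Subgroup U} (hc : Conf p A K) {b : U} (hbA : b ∈ A)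
    (hb : b ∉ Subgroup.normalizer (K : Set U)) {i : ℕ} (h0 : i ≠ 0) (hi : i < p) :
    b ^ i ∉ Subgroup.normalizer (K : Set U) := fun hmem => hb (by
  have hp : p.Prime := Fact.out
  have hcop : Nat.Coprime i p := (Nat.coprime_of_lt_prime h0 hi hp).symm
  obtain ⟨j, hj⟩ := Nat.exists_mul_mod_eq_one_of_coprime hcop hp.one_lt
  have : (b ^ i) ^ j = b := by
    rw [← pow_mul]
    conv_lhs => rw [← Nat.div_add_mod (i * j) p]
    rw [pow_add, pow_mul, hc.exp b hbA, one_pow, one_mul, hj.2, pow_one]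
  exact this ▸ pow_mem hmem j)

/-- Partial products of the conjugates of `x` under the powers of `b`. -/
def part (b x : U) (n : ℕ) : U := (x * b) ^ n * (b ^ n)⁻¹

theorem part_succ (b x : U) (n : ℕ) : part b x (n + 1) = part b x n * (b ^ n * x * (b ^ n)⁻¹) := by
  simp only [part, pow_succ]; group

theorem part_zero (b x : U) : part b x 0 = 1 := by simp [part]

theorem commute_conj {b x z : U} (i : ℕ) (h : Commute x z) :
    Commute (b ^ i * x * (b ^ i)⁻¹) (b ^ i * z * (b ^ i)⁻¹) := (Commute.conj_iff _).mpr h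

theorem copies_commute {A K : Subgroup U} (hc : Conf p A K) {b : U} (hbA : b ∈ A)
    (hb : b ∉ Subgroup.normalizer (K : Set U)) {i m : ℕ} (him : i < m) (hm : m < p) {x y : U}
    (hx : x ∈ K) (hy : y ∈ K) : Commute (b ^ i * x * (b ^ i)⁻¹) (b ^ m * y * (b ^ m)⁻¹) := by
  have h := hc.commutes (pow_mem hbA (m - i)) (pow_notMem hc hbA hb (by omega) (by omega)) y hy x hx
  have h2 := commute_conj (b := b) i (z := b ^ (m - i) * y * (b ^ (m - i))⁻¹) (h : Commute _ x).symm
  convert h2 using 1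
  conv_lhs => rw [show m = i + (m - i) by omega, pow_add]
  group

theorem part_commute {A K : Subgroup U} (hc : Conf p A K) {b : U} (hbA : b ∈ A)
    (hb : b ∉ Subgroup.normalizer (K : Set U)) {x y : U} (hx : x ∈ K) (hy : y ∈ K) :
    ∀ n m, n ≤ m → m < p → Commute (part b x n) (b ^ m * y * (b ^ m)⁻¹) := by
  intro n
  induction n with
  | zero => intro m _ _; rw [part_zero]; exact Commute.one_left _
  | succ n ih =>
    intro m hnm hm
    rw [part_succ]
    exact (ih m (by omega) hm).mul_left (copies_commute hc hbA hb (by omega) hm hx hy)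

theorem part_mul {A K : Subgroup U} (hc : Conf p A K) {b : U} (hbA : b ∈ A)
    (hb : b ∉ Subgroup.normalizer (K : Set U)) {x y : U} (hx : x ∈ K) (hy : y ∈ K) :
    ∀ n, n ≤ p → part b (x * y) n = part b x n * part b y n := by
  intro n
  induction n with
  | zero => intro _; simp [part_zero]
  | succ n ih =>
    intro hn
    have h := (part_commute hc hbA hb hy hx n n le_rfl (by omega)).eq
    rw [part_succ, part_succ, part_succ, ih (by omega)]
    calc part b x n * part b y n * (b ^ n * (x * y) * (b ^ n)⁻¹)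
        = part b x n * (part b y n * (b ^ n * x * (b ^ n)⁻¹)) * (b ^ n * y * (b ^ n)⁻¹) := by group
      _ = part b x n * ((b ^ n * x * (b ^ n)⁻¹) * part b y n) * (b ^ n * y * (b ^ n)⁻¹) := by rw [h]
      _ = _ := by group

theorem part_head {A K : Subgroup U} (hc : Conf p A K) {b : U} (hbA : b ∈ A)
    (hb : b ∉ Subgroup.normalizer (K : Set U)) {x y : U} (hx : x ∈ K) (hy : y ∈ K) :
    ∀ n, n + 1 ≤ p → Commute (x⁻¹ * part b x (n + 1)) y := by
  intro n
  induction n with
  | zero => intro _; rw [part_succ, part_zero]; simp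
  | succ n ih =>
    intro hn
    rw [part_succ, ← mul_assoc]
    refine (ih (by omega)).mul_left ?_
    have := copies_commute hc hbA hb (i := 0) (m := n + 1) (Nat.succ_pos _) (by omega) hy hx
    simpa using this.symm

theorem pow_eq_part {A K : Subgroup U} (hc : Conf p A K) {b : U} (hbA : b ∈ A) (x : U) :
    (x * b) ^ p = part b x p := by rw [part, hc.exp b hbA]; simp

/-- The diagonal of the copies of `K` along `b`. -/
def diag {A K : Subgroup U} (hc : Conf p A K) {b : U} (hbA : b ∈ A) (hb : b ∉ Subgroup.normalizer (K : Set U)) :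
    ↥K →* U where
  toFun x := part b x p
  map_one' := by simp [part]
  map_mul' x y := part_mul hc hbA hb x.2 y.2 p le_rfl

theorem diag_apply {A K : Subgroup U} (hc : Conf p A K) {b : U} (hbA : b ∈ A)
    (hb : b ∉ Subgroup.normalizer (K : Set U)) (x : ↥K) : diag hc hbA hb x = ((x : U) * b) ^ p := by
  rw [pow_eq_part hc hbA]; rfl

theorem diag_head {A K : Subgroup U} (hc : Conf p A K) {b : U} (hbA : b ∈ A)
    (hb : b ∉ Subgroup.normalizer (K : Set U)) (x : ↥K) {y : U} (hy : y ∈ K) :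
    Commute ((x : U)⁻¹ * diag hc hbA hb x) y := by
  have hp : 0 < p := (Fact.out : p.Prime).pos
  have := part_head hc hbA hb x.2 hy (p - 1) (by omega)
  rwa [show p - 1 + 1 = p by omega] at this

theorem fold {A K : Subgroup U} [Finite U] (hc : Conf p A K) {b : U} (hbA : b ∈ A)
    (hb : b ∉ Subgroup.normalizer (K : Set U)) {a : U} (haA : a ∈ A)
    (ha : ∀ j : ℕ, a * b ^ j ∉ Subgroup.normalizer (K : Set U)) :
    ∃ K' : Subgroup U, Conf p A K' ∧ ∀ x ∈ K', b * x = x * b := by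
  set Φ := diag hc hbA hb with hΦ
  have hcb : ∀ x : ↥K, b * Φ x = Φ x * b := by
    intro x
    have h2 : Commute (x : U) (((x : U) * b) ^ p) := by
      have h1 := diag_head hc hbA hb x x.2
      rw [← diag_apply hc hbA hb x]
      have : Commute (x : U) ((x : U) * ((x : U)⁻¹ * Φ x)) := (Commute.refl _).mul_right h1.symm
      simpa using this
    rw [hΦ, diag_apply]
    refine mul_inv_eq_iff_eq_mul.mp ?_
    rw [← conj_pow, show b * ((x : U) * b) * b⁻¹ = (x : U)⁻¹ * ((x : U) * b) * (x : U)⁻¹⁻¹ by group, conj_pow,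
      inv_inv, mul_assoc, ← h2.eq, inv_mul_cancel_left]
  have hgen : ∀ h ∈ A, h ∈ Subgroup.normalizer (K : Set U) → ∀ x ∈ Φ.range, h * x * h⁻¹ ∈ Φ.range := by
    rintro h hh hn _ ⟨x, rfl⟩
    refine ⟨⟨h * x * h⁻¹, (Subgroup.mem_normalizer_iff.mp hn _).mp x.2⟩, ?_⟩
    rw [hΦ, diag_apply, diag_apply, ← conj_pow]
    congr 1
    calc h * (x : U) * h⁻¹ * b = h * (x : U) * (b * h⁻¹) := by
          rw [mul_assoc, hc.comm b hbA h⁻¹ (inv_mem hh)]
      _ = _ := by group
  have hdich : ∀ g ∈ A, (∀ j : ℕ, g * b ^ j ∉ Subgroup.normalizer (K : Set U)) →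
      ∀ x ∈ Φ.range, ∀ y ∈ Φ.range, g * x * g⁻¹ * y = y * (g * x * g⁻¹) := by
    rintro g hg hgn _ ⟨x, rfl⟩ _ ⟨y, rfl⟩
    have hone : ∀ i m : ℕ, ∀ u ∈ K, ∀ w ∈ K,
        Commute (g * (b ^ i * u * (b ^ i)⁻¹) * g⁻¹) (b ^ m * w * (b ^ m)⁻¹) := by
      intro i m u hu w hw
      set j := i + (p - 1) * m with hj
      have h := hc.commutes (mul_mem hg (pow_mem hbA j)) (hgn j) u hu w hw
      have h2 := commute_conj (b := b) m (h : Commute _ w)
      convert h2 using 1
      have e : b ^ m * (g * b ^ j) = g * b ^ i := by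
        rw [← mul_assoc, hc.comm _ (pow_mem hbA m) g hg, mul_assoc, ← pow_add, hj,
          show m + (i + (p - 1) * m) = i + p * m by
            obtain ⟨p', hp'⟩ : ∃ p', p = p' + 1 := ⟨p - 1, by have := (Fact.out : p.Prime).pos; omega⟩
            subst hp'; simp; ring,
          pow_add, pow_mul, hc.exp b hbA, one_pow, mul_one]
      calc g * (b ^ i * u * (b ^ i)⁻¹) * g⁻¹ = (g * b ^ i) * u * (g * b ^ i)⁻¹ := by group
        _ = _ := by rw [← e]; group
    have h1 : ∀ n m, ∀ u ∈ K, ∀ w ∈ K, Commute (g * part b u n * g⁻¹) (b ^ m * w * (b ^ m)⁻¹) := by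
      intro n
      induction n with
      | zero => intro m u _ w _; simp [part_zero]
      | succ n ih =>
        intro m u hu w hw
        rw [part_succ, show g * (part b u n * (b ^ n * u * (b ^ n)⁻¹)) * g⁻¹ =
          (g * part b u n * g⁻¹) * (g * (b ^ n * u * (b ^ n)⁻¹) * g⁻¹) by group]
        exact (ih m u hu w hw).mul_left (hone n m u hu w hw)
    have h2 : ∀ m, Commute (g * part b x p * g⁻¹) (part b y m) := by
      intro m
      induction m with
      | zero => rw [part_zero]; exact Commute.one_right _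
      | succ m ih => rw [part_succ]; exact ih.mul_right (h1 p m x x.2 y y.2)
    exact h2 p
  have hperf : ⁅Φ.range, Φ.range⁆ = Φ.range := by
    have htop : ⁅(⊤ : Subgroup ↥K), (⊤ : Subgroup ↥K)⁆ = (⊤ : Subgroup ↥K) := by
      apply Subgroup.map_injective K.subtype_injective
      rw [Subgroup.map_commutator, ← MonoidHom.range_eq_map, Subgroup.range_subtype, hc.perfect]
    rw [MonoidHom.range_eq_map, ← Subgroup.map_commutator, htop]
  have hne : Φ.range ≠ ⊥ := fun h => hc.not_abelian fun x hx y hy => by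
    have h1 := diag_head hc hbA hb ⟨x, hx⟩ hy
    have h0 : Φ ⟨x, hx⟩ = 1 := Subgroup.mem_bot.mp (h ▸ ⟨_, rfl⟩)
    rw [show diag hc hbA hb ⟨x, hx⟩ = 1 from h0, mul_one] at h1
    simpa using h1.inv_left.eq
  refine ⟨Φ.range, ⟨hc.comm, hc.exp, hperf, hne, ?_, ?_, ⟨a, haA, ?_⟩⟩, fun _ ⟨x, hx⟩ => hx ▸ hcb x⟩
  · intro N hle hn
    rcases hc.norm ((N.comap Φ).map K.subtype) (Subgroup.map_subtype_le _) (by
      rintro k hk _ ⟨n, hn', rfl⟩
      refine ⟨⟨k, hk⟩ * n * ⟨k, hk⟩⁻¹, ?_, by simp⟩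
      show Φ _ ∈ N
      rw [map_mul, map_mul, map_inv]
      exact hn _ ⟨_, rfl⟩ _ hn') with h | h
    · refine Or.inl (le_antisymm hle ?_)
      rintro _ ⟨x, rfl⟩
      have hx : (x : U) ∈ (N.comap Φ).map K.subtype := by rw [h]; exact x.2
      obtain ⟨z, hz, hzx⟩ := hx
      rw [← show z = x from Subtype.ext hzx]; exact hz
    · right
      intro n hn' k hk
      obtain ⟨x, rfl⟩ := hle hn'
      obtain ⟨y, rfl⟩ := hk
      have : x * y = y * x := Subtype.ext (h x ⟨x, hn', rfl⟩ y y.2)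
      rw [← map_mul, this, map_mul]
  · intro g hg
    by_cases hgn : ∀ j : ℕ, g * b ^ j ∉ Subgroup.normalizer (K : Set U)
    · exact Or.inr (hdich g hg hgn)
    · push Not at hgn
      obtain ⟨j, hj⟩ := hgn
      refine Or.inl (mem_normalizer_of_conj_mem fun x hx => ?_)
      have := hgen _ (mul_mem hg (pow_mem hbA j)) hj x hx
      obtain ⟨z, rfl⟩ := hx
      have hbj : b ^ j * Φ z * (b ^ j)⁻¹ = Φ z := by
        rw [((show Commute b (Φ z) from hcb z).pow_left j).eq, mul_inv_cancel_right]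
      rwa [show g * b ^ j * Φ z * (g * b ^ j)⁻¹ = g * (b ^ j * Φ z * (b ^ j)⁻¹) * g⁻¹ by group, hbj] at this
  · intro hn
    have hab : ∀ x ∈ Φ.range, ∀ y ∈ Φ.range, x * y = y * x := by
      intro x hx y hy
      have hz : a⁻¹ * x * a ∈ Φ.range := (Subgroup.mem_normalizer_iff.mp hn _).mpr (by simpa [mul_assoc] using hx)
      simpa [mul_assoc] using hdich a haA ha _ hz y hy
    refine hne ?_
    rw [← hperf, eq_bot_iff, Subgroup.commutator_le]
    intro x hx y hy
    rw [Subgroup.mem_bot, commutatorElement_eq_one_iff_mul_comm]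
    exact hab x hx y hy

end Fold

section Descend

variable {V : Type v} [AddCommGroup V] [Module (ZMod p) V] [Finite V]

/-- Restriction of a configuration to an invariant subspace. -/
theorem restrict_conf {A K : Subgroup (Module.End (ZMod p) V)ˣ} (hc : Conf p A K) (W : Submodule (ZMod p) V)
    (hA : ∀ g ∈ A, ∀ w ∈ W, (g : Module.End (ZMod p) V) w ∈ W)
    (hK : ∀ g ∈ K, ∀ w ∈ W, (g : Module.End (ZMod p) V) w ∈ W)
    (hker : ∀ x ∈ K, (∀ w ∈ W, (x : Module.End (ZMod p) V) w = w) → ∀ y ∈ K, x * y = y * x) :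
    ∃ fA : ↥A →* (Module.End (ZMod p) ↥W)ˣ, ∃ K' : Subgroup (Module.End (ZMod p) ↥W)ˣ, Conf p fA.range K' ∧
      ∀ (g : ↥A) (w : ↥W), (((fA g : (Module.End (ZMod p) ↥W)ˣ) : Module.End (ZMod p) ↥W) w : V) =
        ((g : (Module.End (ZMod p) V)ˣ) : Module.End (ZMod p) V) w := by
  let G1 : Subgroup (Module.End (ZMod p) V)ˣ :=
    { carrier := {g | (∀ w ∈ W, (g : Module.End (ZMod p) V) w ∈ W) ∧
        ∀ w ∈ W, ((g⁻¹ : (Module.End (ZMod p) V)ˣ) : Module.End (ZMod p) V) w ∈ W}
      one_mem' := ⟨fun w hw => by simpa using hw, fun w hw => by simpa using hw⟩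
      mul_mem' := fun {g h} hg hh => ⟨fun w hw => by simpa using hg.1 _ (hh.1 w hw),
        fun w hw => by simpa [mul_inv_rev] using hh.2 _ (hg.2 w hw)⟩
      inv_mem' := fun {g} hg => ⟨hg.2, by simpa using hg.1⟩ }
  have hinv : ∀ g : ↥G1, ∀ w ∈ W, ((g : (Module.End (ZMod p) V)ˣ) : Module.End (ZMod p) V) w ∈ W := fun g => g.2.1
  let f : ↥G1 →* Module.End (ZMod p) ↥W :=
    { toFun := fun g => (((g : (Module.End (ZMod p) V)ˣ) : Module.End (ZMod p) V)).restrict (hinv g)
      map_one' := LinearMap.ext fun w => Subtype.ext (by simp)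
      map_mul' := fun g h => LinearMap.ext fun w => Subtype.ext (by simp) }
  let φ := f.toHomUnits
  have hAG : A ≤ G1 := fun g hg => ⟨hA g hg, hA _ (inv_mem hg)⟩
  have hKG : K ≤ G1 := fun g hg => ⟨hK g hg, hK _ (inv_mem hg)⟩
  set fA : ↥A →* (Module.End (ZMod p) ↥W)ˣ := φ.comp (Subgroup.inclusion hAG) with hfA
  set fK : ↥K →* (Module.End (ZMod p) ↥W)ˣ := φ.comp (Subgroup.inclusion hKG) with hfK
  have hkerK : ∀ x : ↥K, fK x = 1 → ∀ y ∈ K, (x : (Module.End (ZMod p) V)ˣ) * y = y * x := fun x hx =>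
    hker x x.2 fun w hw =>
      congrArg (fun u : (Module.End (ZMod p) ↥W)ˣ => ((u : Module.End (ZMod p) ↥W) ⟨w, hw⟩ : V)) hx
  set K' := fK.range with hK'
  refine ⟨fA, K', ?_, fun g w => rfl⟩
  have hperf : ⁅K', K'⁆ = K' := by
    have htop : ⁅(⊤ : Subgroup ↥K), (⊤ : Subgroup ↥K)⁆ = (⊤ : Subgroup ↥K) := by
      apply Subgroup.map_injective K.subtype_injective
      rw [Subgroup.map_commutator, ← MonoidHom.range_eq_map, Subgroup.range_subtype, hc.perfect]
    rw [hK', MonoidHom.range_eq_map, ← Subgroup.map_commutator, htop]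
  have hne : K' ≠ ⊥ := fun h => hc.not_abelian fun x hx y hy =>
    hkerK ⟨x, hx⟩ (Subgroup.mem_bot.mp (h ▸ ⟨_, rfl⟩)) y hy
  have hcommutes : ∀ g : ↥A, (g : (Module.End (ZMod p) V)ˣ) ∉ Subgroup.normalizer (K : Set _) →
      ∀ x ∈ K', ∀ y ∈ K', fA g * x * (fA g)⁻¹ * y = y * (fA g * x * (fA g)⁻¹) := by
    rintro g hg _ ⟨x, rfl⟩ _ ⟨y, rfl⟩
    simp only [hfA, hfK, MonoidHom.comp_apply, ← map_inv, ← map_mul]
    exact congrArg φ (Subtype.ext (hc.commutes g.2 hg x x.2 y y.2))
  obtain ⟨a, haA, hna⟩ := hc.moves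
  refine ⟨?_, ?_, hperf, hne, ?_, ?_, ⟨fA ⟨a, haA⟩, ⟨_, rfl⟩, ?_⟩⟩
  · rintro _ ⟨x, rfl⟩ _ ⟨y, rfl⟩
    rw [← map_mul, show x * y = y * x from Subtype.ext (hc.comm x x.2 y y.2), map_mul]
  · rintro _ ⟨x, rfl⟩
    rw [← map_pow, show x ^ p = 1 from Subtype.ext (hc.exp x x.2), map_one]
  · intro N hle hn
    rcases hc.norm ((N.comap fK).map K.subtype) (Subgroup.map_subtype_le _) (by
      rintro k hk _ ⟨n, hn', rfl⟩
      refine ⟨⟨k, hk⟩ * n * ⟨k, hk⟩⁻¹, ?_, by simp⟩
      show fK _ ∈ N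
      rw [map_mul, map_mul, map_inv]
      exact hn _ ⟨_, rfl⟩ _ hn') with h | h
    · refine Or.inl (le_antisymm hle ?_)
      rintro _ ⟨x, rfl⟩
      have hx : (x : (Module.End (ZMod p) V)ˣ) ∈ (N.comap fK).map K.subtype := by rw [h]; exact x.2
      obtain ⟨z, hz, hzx⟩ := hx
      rw [← show z = x from Subtype.ext hzx]; exact hz
    · right
      intro n hn' k hk
      obtain ⟨x, rfl⟩ := hle hn'
      obtain ⟨y, rfl⟩ := hk
      rw [← map_mul, show x * y = y * x from Subtype.ext (h x ⟨x, hn', rfl⟩ y y.2), map_mul]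
  · rintro _ ⟨g, rfl⟩
    by_cases hg : (g : (Module.End (ZMod p) V)ˣ) ∈ Subgroup.normalizer (K : Set _)
    · refine Or.inl (mem_normalizer_of_conj_mem ?_)
      rintro _ ⟨x, rfl⟩
      refine ⟨⟨_, (Subgroup.mem_normalizer_iff.mp hg x).mp x.2⟩, ?_⟩
      simp only [hfA, hfK, MonoidHom.comp_apply, ← map_inv, ← map_mul]
      exact congrArg φ (Subtype.ext rfl)
    · exact Or.inr (hcommutes g hg)
  · intro hn
    refine hne ?_
    rw [← hperf, eq_bot_iff, Subgroup.commutator_le]
    intro x hx y hy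
    rw [Subgroup.mem_bot, commutatorElement_eq_one_iff_mul_comm]
    have hz : (fA ⟨a, haA⟩)⁻¹ * x * fA ⟨a, haA⟩ ∈ K' :=
      (Subgroup.mem_normalizer_iff.mp hn _).mpr (by simpa [mul_assoc] using hx)
    simpa [mul_assoc] using hcommutes ⟨a, haA⟩ hna _ hz y hy

theorem descend {A K : Subgroup (Module.End (ZMod p) V)ˣ} (hc : Conf p A K) (hP : Best A)
    (IH : Below.{v} p (Nat.card ↥A)) {b : (Module.End (ZMod p) V)ˣ} (hbA : b ∈ A) (hb1 : b ≠ 1)
    (hbK : ∀ x ∈ K, b * x = x * b) : False := by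
  set S := Subgroup.zpowers b with hS
  set W := fixSpace S with hW
  have hinv : ∀ g : (Module.End (ZMod p) V)ˣ, Commute b g → ∀ w ∈ W, (g : Module.End (ZMod p) V) w ∈ W := by
    intro g hg w hw s hs
    have hcomm : s * g = g * s := by
      obtain ⟨n, rfl⟩ := Subgroup.mem_zpowers_iff.mp hs
      exact (hg.zpow_left n).eq
    rw [← Module.End.mul_apply, ← Units.val_mul, hcomm, Units.val_mul, Module.End.mul_apply, hw s hs]
  have hSA : S ≤ A := Subgroup.zpowers_le.mpr hbA
  let L : Subgroup (Module.End (ZMod p) V)ˣ :=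
    { carrier := {x | x ∈ K ∧ ∀ w ∈ W, (x : Module.End (ZMod p) V) w = w}
      one_mem' := ⟨one_mem K, fun w _ => by simp⟩
      mul_mem' := fun {x y} hx hy => ⟨mul_mem hx.1 hy.1, fun w hw => by simp [hy.2 w hw, hx.2 w hw]⟩
      inv_mem' := fun {x} hx => ⟨inv_mem hx.1, fun w hw => by
        conv_lhs => rw [← hx.2 w hw]
        rw [← Module.End.mul_apply, Units.inv_mul, Module.End.one_apply]⟩ }
  have hker : ∀ x ∈ L, ∀ y ∈ K, x * y = y * x := by
    refine hc.pgroup_central (r := p) L (fun x hx => hx.1) ?_ ?_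
    · intro k hk n hn
      refine ⟨mul_mem (mul_mem hk hn.1) (inv_mem hk), fun w hw => ?_⟩
      rw [Units.val_mul, Units.val_mul, Module.End.mul_apply, Module.End.mul_apply,
        hn.2 _ (hinv _ (show Commute b k⁻¹ from hbK _ (inv_mem hk)) w hw), ← Module.End.mul_apply, Units.mul_inv,
        Module.End.one_apply]
    · rintro ⟨n, hn⟩
      have hn0 : orderOf n ≠ 0 := (orderOf_pos _).ne'
      refine ⟨(orderOf n).factorization p, Subtype.ext ?_⟩
      show n ^ _ = 1
      refine eq_one_of_fixSpace (S := S) (isPGroup_of_exp fun s hs => hc.exp s (hSA hs)) ?_ ?_ ?_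
      · rw [orderOf_pow' _ (Nat.ordProj_pos _ _).ne', Nat.gcd_eq_right (Nat.ordProj_dvd _ _)]
        exact Nat.not_dvd_ordCompl Fact.out hn0
      · intro s hs
        obtain ⟨m, rfl⟩ := Subgroup.mem_zpowers_iff.mp hs
        exact (((show Commute b n from hbK n hn.1).zpow_left m).pow_right _).eq
      · exact (pow_mem hn _ : n ^ _ ∈ L).2
  obtain ⟨fA, K', hconf, hfA⟩ := restrict_conf hc W (fun g hg => hinv g (hc.comm b hbA g hg))
    (fun g hg => hinv g (hbK g hg)) (fun x hx hw => hker x ⟨hx, hw⟩)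
  set A' := fA.range with hA'
  have hkerA : (⟨b, hbA⟩ : ↥A) ∈ fA.ker := by
    refine Units.ext (LinearMap.ext fun w => Subtype.ext ?_)
    rw [hfA]; exact w.2 b (Subgroup.mem_zpowers b)
  have hcardA : Nat.card ↥A = Nat.card ↥fA.ker * Nat.card ↥A' := by
    rw [Subgroup.card_eq_card_quotient_mul_card_subgroup fA.ker,
      Nat.card_congr (QuotientGroup.quotientKerEquivRange fA).toEquiv, mul_comm]
  have hlt : Nat.card ↥A' < Nat.card ↥A := by
    have h2 : 1 < Nat.card ↥fA.ker := Subgroup.one_lt_card_iff_ne_bot _ |>.mpr fun h => by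
      rw [h, Subgroup.mem_bot] at hkerA
      exact hb1 (congrArg Subtype.val hkerA)
    rw [hcardA]
    exact lt_mul_of_one_lt_left Nat.card_pos h2
  refine IH ↥W A' K' hlt hconf fun B hB => ?_
  set B0 := (B.comap fA).map A.subtype with hB0
  have hcardB : Nat.card ↥B0 = Nat.card ↥fA.ker * Nat.card ↥B := by
    rw [hB0, Subgroup.card_map_of_injective A.subtype_injective]
    have h1 := Subgroup.card_mul_index (B.comap fA)
    rw [Subgroup.index_comap] at h1
    have h2 := Subgroup.card_mul_index (B.subgroupOf A')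
    rw [Nat.card_congr (Subgroup.subgroupOfEquivOfLe hB).toEquiv] at h2
    have h3 : B.relIndex fA.range = (B.subgroupOf A').index := rfl
    rw [h3] at h1
    have hpos : 0 < (B.subgroupOf A').index := Nat.pos_of_ne_zero Subgroup.index_ne_zero_of_finite
    apply Nat.eq_of_mul_eq_mul_right hpos
    rw [h1, mul_assoc, h2, hcardA]
  have hfix : ∀ (B1 : Subgroup (Module.End (ZMod p) V)ˣ) (B2 : Subgroup (Module.End (ZMod p) ↥W)ˣ), S ≤ B1 →
      (∀ (v : ↥W), (v : V) ∈ fixSpace B1 ↔ v ∈ fixSpace B2) → Nat.card ↥(fixSpace B1) = Nat.card ↥(fixSpace B2) := by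
    intro B1 B2 hle h
    exact Nat.card_congr
      { toFun := fun v => ⟨⟨v, fixSpace_anti hle v.2⟩, (h _).mp v.2⟩
        invFun := fun v => ⟨(v : ↥W), (h _).mpr v.2⟩
        left_inv := fun v => rfl
        right_inv := fun v => rfl }
  have hA1 := hfix A A' hSA fun v => by
    constructor
    · rintro hv _ ⟨g, rfl⟩
      exact Subtype.ext ((hfA g v).trans (hv g g.2))
    · intro hv g hg
      exact (hfA ⟨g, hg⟩ v).symm.trans (congrArg Subtype.val (hv _ ⟨⟨g, hg⟩, rfl⟩))
  have hB1 := hfix B0 B (Subgroup.zpowers_le.mpr ⟨⟨b, hbA⟩, by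
      show fA _ ∈ B
      rw [MonoidHom.mem_ker.mp hkerA]; exact one_mem _, rfl⟩) fun v => by
    constructor
    · intro hv u hu
      obtain ⟨g, rfl⟩ := hB hu
      exact Subtype.ext ((hfA g v).trans (hv g ⟨g, hu, rfl⟩))
    · rintro hv _ ⟨g, hg, rfl⟩
      exact (hfA g v).symm.trans (congrArg Subtype.val (hv _ hg))
  have := hP B0 (Subgroup.map_subtype_le _)
  rw [hcardB, hcardA, hA1, hB1, mul_assoc, mul_assoc] at this
  exact Nat.le_of_mul_le_mul_left this Nat.card_pos

end Descend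

end CfsgLib.PGV
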