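import Cfsg.Agent.Lib.PGV.Two
import Cfsg.Agent.Lib.PGV.Reduce
import Mathlib.LinearAlgebra.Matrix.GeneralLinearGroup.Card

/-!
Characteristic two: a quadratic pair forces a small module, which is impossible.
-/

set_option autoImplicit false

namespace CfsgLib.PGV

universe v

section OrbitGroup

variable {U : Type v} [Group U] [Finite U]

/-- The group generated by a prime-power element and its conjugates under a cyclic group. -/
theorem orbit_group {p q : ℕ} [Fact p.Prime] (hq : q.Prime) (hqp : q ≠ p) {A K : Subgroup U} (hc : Conf p A K)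
    {a : U} (haA : a ∈ A) (ha : a ∉ Subgroup.normalizer (K : Set U)) {k : U} (hk : k ∈ K) {j : ℕ}
    (hj : k ^ q ^ j = 1) :
    ∃ T : Subgroup U, (∀ x ∈ T, ∀ y ∈ T, x * y = y * x) ∧ ¬ p ∣ Nat.card ↥T ∧ k ∈ T ∧
      ∀ t ∈ T, a * t * a⁻¹ ∈ T := by
  set S : Set U := {x | ∃ i : ℕ, x = a ^ i * k * (a ^ i)⁻¹} with hS
  have hcomm : ∀ x ∈ S, ∀ y ∈ S, x * y = y * x := by
    rintro _ ⟨i, rfl⟩ _ ⟨m, rfl⟩
    wlog him : i ≤ m generalizing i m
    · exact (this m i (by omega)).symm
    rw [show a ^ m = a ^ i * a ^ (m - i) by rw [← pow_add]; congr 1; omega]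
    have h1 : Commute k (a ^ (m - i) * k * (a ^ (m - i))⁻¹) := by
      obtain ⟨r, hr, hlt⟩ : ∃ r, a ^ (m - i) = a ^ r ∧ r < p := ⟨(m - i) % p, by
        conv_lhs => rw [← Nat.div_add_mod (m - i) p]
        rw [pow_add, pow_mul, hc.exp a haA, one_pow, one_mul], Nat.mod_lt _ (Fact.out : p.Prime).pos⟩
      rw [hr]
      rcases Nat.eq_zero_or_pos r with rfl | hr0
      · simp
      · have := copies_commute hc haA ha (i := 0) (m := r) hr0 hlt hk hk
        simpa using this
    have h2 := (commute_conj (b := a) i h1).eq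
    have e : a ^ i * a ^ (m - i) * k * (a ^ i * a ^ (m - i))⁻¹ =
        a ^ i * (a ^ (m - i) * k * (a ^ (m - i))⁻¹) * (a ^ i)⁻¹ := by group
    rw [e]; exact h2
  haveI := Subgroup.isMulCommutative_closure hcomm
  have hab : ∀ x ∈ Subgroup.closure S, ∀ y ∈ Subgroup.closure S, x * y = y * x := fun x hx y hy =>
    Subgroup.mul_comm_of_mem_isMulCommutative (Subgroup.closure S) hx hy
  refine ⟨Subgroup.closure S, hab, ?_, Subgroup.subset_closure ⟨0, by simp⟩, ?_⟩
  · intro hd
    obtain ⟨⟨x, hx⟩, hox⟩ := exists_prime_orderOf_dvd_card' p hd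
    have hpow : ∀ y ∈ Subgroup.closure S, y ^ q ^ j = 1 := by
      intro y hy
      induction hy using Subgroup.closure_induction with
      | mem z hz => obtain ⟨i, rfl⟩ := hz; rw [conj_pow, hj]; simp
      | one => exact one_pow _
      | mul y z hy hz ihy ihz => rw [(show Commute y z from hab y hy z hz).mul_pow, ihy, ihz, one_mul]
      | inv y _ ih => rw [inv_pow, ih, inv_one]
    have h : orderOf x ∣ q ^ j := orderOf_dvd_of_pow_eq_one (hpow x hx)
    rw [← Subgroup.orderOf_coe] at hox
    rw [hox] at h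
    exact hqp ((Nat.prime_dvd_prime_iff_eq Fact.out hq).mp ((Fact.out : p.Prime).dvd_of_dvd_pow h)).symm
  · intro t ht
    have : (Subgroup.closure S).map (MulAut.conj a).toMonoidHom ≤ Subgroup.closure S := by
      rw [MonoidHom.map_closure, Subgroup.closure_le]
      rintro _ ⟨_, ⟨i, rfl⟩, rfl⟩
      refine Subgroup.subset_closure ⟨i + 1, ?_⟩
      simp only [MulEquiv.coe_toMonoidHom, MulAut.conj_apply, pow_succ']
      group
    simpa using this ⟨t, ht, rfl⟩

end OrbitGroup

variable {V : Type v} [AddCommGroup V] [Module (ZMod 2) V] [Finite V]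

local notation "E" => Module.End (ZMod 2) V

omit [Finite V] in
theorem val_inv_of_sq {g : Eˣ} (h : g ^ 2 = 1) : g⁻¹ = g :=
  inv_eq_of_mul_eq_one_right (by rw [← pow_two]; exact h)

theorem sub_one_sq {g : Eˣ} (h : g ^ 2 = 1) : ((g : E) - 1) * ((g : E) - 1) = 0 := by
  rw [sub_eq_add_end, show ((g : E) + 1) * ((g : E) + 1) = (g : E) * g + ((g : E) + (g : E)) + 1 by noncomm_ring,
    add_self_end, add_zero, ← Units.val_mul, ← pow_two, h, Units.val_one, add_self_end]

/-- The data of an element `k` inverted by `b` and moved by `a`. -/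
structure Pair (A K : Subgroup Eˣ) (a b k : Eˣ) : Prop where
  aA : a ∈ A
  bA : b ∈ A
  moves : a ∉ Subgroup.normalizer (K : Set Eˣ)
  ab : ((a : E) - 1) * ((b : E) - 1) = 0
  ba : ((b : E) - 1) * ((a : E) - 1) = 0
  kK : k ∈ K
  odd : ¬ 2 ∣ orderOf k
  inv : b * k * b⁻¹ = k⁻¹
  nc : ¬ ∀ y ∈ K, k * y = y * k

theorem Pair.facts {A K : Subgroup Eˣ} {a b k : Eˣ} (hc : Conf 2 A K) (h : Pair A K a b k) :
    ((k : E) + ((a * k * a⁻¹ : Eˣ) : E)) * ((k : E) * ((a * k * a⁻¹ : Eˣ) : E) + 1) = 0 ∧
    (∀ v : V, (k : E) v = v → ∀ x ∈ K, (x : E) v = v) := by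
  haveI : Fact (Nat.Prime 2) := ⟨Nat.prime_two⟩
  set k' := a * k * a⁻¹ with hk'
  have hkk : Commute k k' := (hc.commutes h.aA h.moves k h.kK k h.kK : Commute k' k).symm
  set T := Subgroup.closure ({k, k'} : Set Eˣ) with hT
  have hgc : ∀ x ∈ ({k, k'} : Set Eˣ), ∀ y ∈ ({k, k'} : Set Eˣ), x * y = y * x := by
    rintro x (rfl | rfl) y (rfl | rfl)
    exacts [rfl, hkk.eq, hkk.symm.eq, rfl]
  haveI := Subgroup.isMulCommutative_closure hgc
  have hab : ∀ x ∈ T, ∀ y ∈ T, x * y = y * x := fun x hx y hy => Subgroup.mul_comm_of_mem_isMulCommutative T hx hy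
  have hcardT : ¬ 2 ∣ Nat.card ↥T := by
    intro hd
    obtain ⟨⟨x, hx⟩, hox⟩ := exists_prime_orderOf_dvd_card' 2 hd
    have hpow : ∀ y ∈ T, y ^ orderOf k = 1 := by
      intro y hy
      induction hy using Subgroup.closure_induction with
      | mem z hz =>
        rcases hz with rfl | rfl
        · exact pow_orderOf_eq_one _
        · rw [hk', conj_pow, pow_orderOf_eq_one]; simp
      | one => exact one_pow _
      | mul y z hy hz ihy ihz => rw [(show Commute y z from hab y hy z hz).mul_pow, ihy, ihz, one_mul]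
      | inv y _ ih => rw [inv_pow, ih, inv_one]
    rw [← Subgroup.orderOf_coe] at hox
    have hdvd := orderOf_dvd_of_pow_eq_one (hpow x hx)
    rw [hox] at hdvd
    exact h.odd hdvd
  have hb2 := hc.exp b h.bA
  have ha2 := hc.exp a h.aA
  have hka : a * k' * a⁻¹ = k := by
    rw [hk', show a * (a * k * a⁻¹) * a⁻¹ = a ^ 2 * k * (a ^ 2)⁻¹ by rw [pow_two]; group, ha2]; simp
  have hk'b : b * k' * b⁻¹ = k'⁻¹ := by
    have hc' := hc.comm b h.bA a h.aA
    calc b * k' * b⁻¹ = (b * a) * k * (b * a)⁻¹ := by rw [hk']; group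
      _ = a * (b * k * b⁻¹) * a⁻¹ := by rw [hc']; group
      _ = k'⁻¹ := by rw [h.inv, hk']; group
  have hgen : ∀ g : Eˣ, g * k * g⁻¹ ∈ T → g * k' * g⁻¹ ∈ T → ∀ t ∈ T, g * t * g⁻¹ ∈ T := by
    intro g h1 h2 t ht
    induction ht using Subgroup.closure_induction with
    | mem z hz => rcases hz with rfl | rfl <;> assumption
    | one => simp
    | mul y z _ _ ihy ihz => rw [← conj_mul]; exact mul_mem ihy ihz
    | inv y _ ih => rw [← conj_inv]; exact inv_mem ih
  have hkT : k ∈ T := Subgroup.subset_closure (by simp)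
  have hk'T : k' ∈ T := Subgroup.subset_closure (by simp)
  have hca := adjoin_invariant (hgen a (hk' ▸ hk'T) (by rw [hka]; exact hkT))
  have hcb := adjoin_invariant (hgen b (by rw [h.inv]; exact inv_mem hkT) (by rw [hk'b]; exact inv_mem hk'T))
  rw [val_inv_of_sq ha2, two_eq] at hca
  rw [val_inv_of_sq hb2, two_eq] at hcb
  have hid := four_term (W := Algebra.adjoin (ZMod 2) ((fun u : Eˣ => (u : E)) '' (T : Set Eˣ))) rfl
    (fun r hr h2 => eq_zero_of_pow_eq_zero hab hcardT hr h2) (sub_one_sq ha2) (sub_one_sq hb2) h.ab h.ba hca hcb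
    (Algebra.subset_adjoin (Set.mem_image_of_mem _ hkT))
  rw [← two_eq, ← two_eq] at hid
  have ea : (a : E) * (k : E) * (a : E) = (k' : E) := by
    rw [hk', Units.val_mul, Units.val_mul, val_inv_of_sq ha2]
  have eb : (b : E) * (k : E) * (b : E) = ((k⁻¹ : Eˣ) : E) := by
    rw [← h.inv, Units.val_mul, Units.val_mul, val_inv_of_sq hb2]
  have eb' : (b : E) * (k' : E) * (b : E) = ((k'⁻¹ : Eˣ) : E) := by
    rw [← hk'b, val_inv_of_sq hb2, ← Units.val_mul, ← Units.val_mul]
  rw [ea, eb, eb'] at hid
  have hcE : (k : E) * (k' : E) = (k' : E) * k := congrArg Units.val hkk.eq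
  have hid2 : ((k : E) + (k' : E)) * ((k : E) * (k' : E) + 1) = 0 := by
    have := congrArg (fun z : E => (k : E) * (k' : E) * z) hid
    simp only [mul_zero] at this
    rw [mul_add, mul_add, mul_add, show (k : E) * k' * ((k⁻¹ : Eˣ) : E) = k' by
        rw [hcE, mul_assoc, Units.mul_inv, mul_one],
      show (k : E) * k' * ((k'⁻¹ : Eˣ) : E) = k by rw [mul_assoc, Units.mul_inv, mul_one]] at this
    rw [show ((k : E) + (k' : E)) * ((k : E) * (k' : E) + 1) = (k : E) * ((k : E) * k') + (k' : E) * ((k : E) * k') +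
      ((k : E) + k') by noncomm_ring, ← this]
    rw [show (k' : E) * ((k : E) * k') = (k : E) * k' * k' by rw [← mul_assoc, ← hcE],
      show (k : E) * ((k : E) * (k' : E)) = (k : E) * k' * k by rw [mul_assoc, ← hcE]]
    abel
  refine ⟨hid2, ?_⟩
  have hodd' : ¬ 2 ∣ orderOf k' := by
    rw [hk', show a * k * a⁻¹ = (MulAut.conj a).toMonoidHom k from rfl, orderOf_injective (MulAut.conj a).toMonoidHom
      (MulAut.conj a).injective k]
    exact h.odd
  have h1 : ∀ v : V, (k : E) v = v → (k' : E) v = v := by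
    intro v hv
    refine semisimple_apply hodd' ?_
    have := congrArg (fun z : E => z v) hid2
    rw [show ((k : E) + (k' : E)) * ((k : E) * (k' : E) + 1) =
      (k : E) * ((k : E) * k') + (k' : E) * ((k : E) * k') + (k : E) + (k' : E) by noncomm_ring] at this
    simp only [LinearMap.add_apply, Module.End.mul_apply, LinearMap.zero_apply] at this
    have hc1 : (k : E) ((k' : E) v) = (k' : E) v := by
      rw [← Module.End.mul_apply, hcE, Module.End.mul_apply, hv]
    rw [hc1, hc1, hv] at this
    rw [sub_eq_add_end, LinearMap.add_apply, Module.End.one_apply, LinearMap.add_apply, Module.End.one_apply, map_add]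
    rw [← this]; abel
  have h1' : ∀ v : V, (k' : E) v = v → (k : E) v = v := by
    intro v hv
    have hs : a⁻¹ = a := val_inv_of_sq ha2
    have h3 : (k : E) ((a : E) v) = (a : E) v := by
      rw [← Module.End.mul_apply, ← Units.val_mul,
        show k * a = a * k' by rw [hk', ← mul_assoc, ← mul_assoc, ← pow_two, ha2, one_mul, hs],
        Units.val_mul, Module.End.mul_apply, hv]
    have h4 := h1 _ h3
    have h5 := congrArg (a : E) h4
    rw [← Module.End.mul_apply, ← Module.End.mul_apply, ← Units.val_mul, ← Units.val_mul,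
      show a * k' * a = k by
        rw [show a * k' * a = a * k' * a⁻¹ by rw [hs]]
        exact hka,
      ← Module.End.mul_apply, ← Units.val_mul, show a * a = 1 by rw [← pow_two, ha2], Units.val_one,
      Module.End.one_apply] at h5
    exact h5
  intro v hv
  let L : Subgroup Eˣ :=
    { carrier := {x | x ∈ K ∧ ∀ w : V, (k : E) w = w → (x : E) w = w}
      one_mem' := ⟨one_mem K, fun w _ => by simp⟩
      mul_mem' := fun {x y} hx hy => ⟨mul_mem hx.1 hy.1, fun w hw => by simp [hy.2 w hw, hx.2 w hw]⟩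
      inv_mem' := fun {x} hx => ⟨inv_mem hx.1, fun w hw => by
        conv_lhs => rw [← hx.2 w hw]
        rw [← Module.End.mul_apply, Units.inv_mul, Module.End.one_apply]⟩ }
  have hinv : ∀ x ∈ K, ∀ w : V, (k : E) w = w → (k : E) ((x : E) w) = (x : E) w := by
    intro x hx w hw
    refine h1' _ ?_
    rw [← Module.End.mul_apply, ← Units.val_mul, hc.commutes h.aA h.moves k h.kK x hx, Units.val_mul,
      Module.End.mul_apply, h1 w hw]
  rcases hc.norm L (fun x hx => hx.1) (by
    intro g hg x hx
    refine ⟨mul_mem (mul_mem hg hx.1) (inv_mem hg), fun w hw => ?_⟩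
    rw [Units.val_mul, Units.val_mul, Module.End.mul_apply, Module.End.mul_apply,
      hx.2 _ (hinv _ (inv_mem hg) w hw), ← Module.End.mul_apply, Units.mul_inv, Module.End.one_apply]) with hL | hL
  · exact fun x hx => (hL.symm ▸ hx : x ∈ L).2 v hv
  · exact absurd (hL k ⟨h.kK, fun w hw => hw⟩) h.nc

theorem Pair.fixedPointFree {A K : Subgroup Eˣ} {a b k : Eˣ} (hc : Conf 2 A K) (h : Pair A K a b k)
    (hfree : ∀ v : V, (∀ x ∈ K, (x : E) v = v) → v = 0) : ∀ v : V, (k : E) v = v → v = 0 :=
  fun v hv => hfree v ((h.facts hc).2 v hv)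

theorem Pair.ker_le {A K : Subgroup Eˣ} {a b k : Eˣ} (hc : Conf 2 A K) (h : Pair A K a b k)
    (hfree : ∀ v : V, (∀ x ∈ K, (x : E) v = v) → v = 0) :
    LinearMap.ker ((b : E) - 1) ≤ LinearMap.range ((b : E) - 1) := by
  intro z hz
  have hs : Function.Injective ((k : E) * k + 1 : E) := by
    refine (injective_iff_map_eq_zero _).mpr fun v hv => h.fixedPointFree hc hfree v (sq_fix h.odd ?_)
    rw [LinearMap.add_apply, Module.End.one_apply] at hv
    calc ((k : E) * k) v = ((k : E) * k) v + (v + v) := by rw [add_self_vec, add_zero]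
      _ = v := by rw [← add_assoc, hv, zero_add]
  obtain ⟨y, hy⟩ := (LinearMap.injective_iff_surjective.mp hs) z
  refine ⟨y, hs ?_⟩
  have hbz : (b : E) z = z := by simpa [sub_eq_zero] using hz
  have hb2 := hc.exp b h.bA
  have hbk : (b : E) * k = ((k⁻¹ : Eˣ) : E) * b := by
    rw [← Units.val_mul, ← Units.val_mul, ← h.inv]; congr 1; group
  have e : (((k⁻¹ : Eˣ) : E) * ((k⁻¹ : Eˣ) : E) + 1) * (b : E) = (b : E) * ((k : E) * k + 1) := by
    rw [mul_add, mul_one, ← mul_assoc, hbk, mul_assoc, hbk, ← mul_assoc, add_mul, one_mul]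
  have e2 : ((k : E) * k + 1) * (b : E) = (k : E) * k * ((b : E) * ((k : E) * k + 1)) := by
    rw [← e, ← mul_assoc, mul_add, mul_one, ← mul_assoc, mul_assoc (k : E) (k : E), Units.mul_inv, mul_one,
      Units.mul_inv, add_comm]
  rw [← Module.End.mul_apply, sub_eq_add_end, mul_add, mul_one, LinearMap.add_apply, e2,
    Module.End.mul_apply, Module.End.mul_apply (b : E), hy, hbz]
  rfl

theorem Pair.split {A K : Subgroup Eˣ} {a b k : Eˣ} (hc : Conf 2 A K) (h : Pair A K a b k)
    (hfree : ∀ v : V, (∀ x ∈ K, (x : E) v = v) → v = 0) :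
    (∀ v : V, ∃ v₁ v₂ : V, v = v₁ + v₂ ∧ (a : E) v₁ = v₁ ∧ (a : E) v₂ = (b : E) v₂) := by
  obtain ⟨hid, -⟩ := h.facts hc
  set k' := a * k * a⁻¹ with hk'
  have ha2 := hc.exp a h.aA
  have hb2 := hc.exp b h.bA
  have hkk : (k : E) * (k' : E) = (k' : E) * k :=
    congrArg Units.val (show Commute k' k from hc.commutes h.aA h.moves k h.kK k h.kK).symm.eq
  set u := (k : E) + (k' : E) with hu
  set w := (k : E) * (k' : E) + 1 with hw
  have huw : u * w = 0 := hid
  have hwu : w * u = 0 := by
    rw [← huw, hw, hu]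
    simp only [add_mul, mul_add, one_mul, mul_one]
    rw [show (k : E) * k' * k = (k : E) * (k * k') by rw [mul_assoc, hkk],
      show (k : E) * k' * k' = (k' : E) * ((k : E) * k') by rw [← mul_assoc (k' : E), ← hkk]]
    abel
  have hsum : (k : E) * u + w = (k : E) * k + 1 := by
    rw [hu, hw, mul_add, show (k : E) * k + (k : E) * k' + ((k : E) * k' + 1) =
      (k : E) * k + ((k : E) * k' + (k : E) * k') + 1 by abel, add_self_end, add_zero]
  have hs : Function.Injective ((k : E) * k + 1 : E) := by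
    refine (injective_iff_map_eq_zero _).mpr fun v hv => h.fixedPointFree hc hfree v (sq_fix h.odd ?_)
    rw [LinearMap.add_apply, Module.End.one_apply] at hv
    calc ((k : E) * k) v = ((k : E) * k) v + (v + v) := by rw [add_self_vec, add_zero]
      _ = v := by rw [← add_assoc, hv, zero_add]
  have hak : (a : E) * k = (k' : E) * a := by rw [hk', Units.val_mul, Units.val_mul, mul_assoc, Units.inv_mul, mul_one]
  have hak' : (a : E) * k' = (k : E) * a := by
    rw [← Units.val_mul, ← Units.val_mul]; congr 1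
    rw [hk', ← mul_assoc, ← mul_assoc, ← pow_two, ha2, one_mul, val_inv_of_sq ha2]
  have hbk : (b : E) * k = ((k⁻¹ : Eˣ) : E) * b := by
    rw [← Units.val_mul, ← Units.val_mul, ← h.inv]; congr 1; group
  have hfix0 : ∀ g : E, g * k = (k : E) * g → ∀ z : V, (b : E) (g z) = g z → (b : E) (g ((k : E) z)) = g ((k : E) z) →
      g z = 0 := by
    intro g hg z h1 h2
    refine h.fixedPointFree hc hfree _ (sq_fix h.odd ?_)
    rw [← Module.End.mul_apply g, hg, Module.End.mul_apply, ← Module.End.mul_apply (b : E), hbk, Module.End.mul_apply,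
      h1] at h2
    rw [Module.End.mul_apply]
    conv_lhs => rw [← h2]
    rw [← Module.End.mul_apply (k : E), Units.mul_inv, Module.End.one_apply]
  have hA : ∀ v, u v = 0 → (a : E) v = v := by
    intro v hv
    have hkv : ∀ z, u z = 0 → (k' : E) z = (k : E) z := fun z hz => by
      have : (k : E) z + (k' : E) z = 0 := by simpa [hu] using hz
      calc (k' : E) z = ((k : E) z + (k : E) z) + (k' : E) z := by rw [add_self_vec, zero_add]
        _ = (k : E) z := by rw [add_assoc, this, add_zero]
    have hua : u ((a : E) v) = 0 := by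
      rw [← Module.End.mul_apply, hu, add_mul, ← hak, ← hak', ← mul_add, Module.End.mul_apply,
        add_comm (k' : E), ← hu, hv, map_zero]
    have hz : ((a : E) - 1) v = 0 := by
      have hfixb : ∀ x : V, (b : E) (((a : E) - 1) x) = ((a : E) - 1) x := fun x => by
        have := congrArg (fun z : E => z x) h.ba
        simpa [sub_eq_zero] using this
      refine h.fixedPointFree hc hfree _ (sq_fix h.odd ?_)
      have hcm : (k : E) (((a : E) - 1) v) = ((a : E) - 1) ((k : E) v) := by
        simp only [LinearMap.sub_apply, Module.End.one_apply, map_sub]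
        rw [← Module.End.mul_apply (a : E), hak, Module.End.mul_apply, hkv _ hua]
      have h2 := hfixb ((k : E) v)
      rw [← hcm, ← Module.End.mul_apply (b : E), hbk, Module.End.mul_apply, hfixb v] at h2
      rw [Module.End.mul_apply]
      conv_lhs => rw [← h2]
      rw [← Module.End.mul_apply (k : E), Units.mul_inv, Module.End.one_apply]
    simpa [sub_eq_zero] using hz
  have hB : ∀ v, w v = 0 → (a : E) v = (b : E) v := by
    intro v hv
    have hkv : ∀ z, w z = 0 → (k' : E) z = ((k⁻¹ : Eˣ) : E) z := fun z hz => by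
      have h0 : (k : E) ((k' : E) z) + z = 0 := by simpa [hw] using hz
      have h1 : (k : E) ((k' : E) z) = z := by
        calc (k : E) ((k' : E) z) = (k : E) ((k' : E) z) + (z + z) := by rw [add_self_vec, add_zero]
          _ = z := by rw [← add_assoc, h0, zero_add]
      conv_rhs => rw [← h1]
      rw [← Module.End.mul_apply ((k⁻¹ : Eˣ) : E), Units.inv_mul, Module.End.one_apply]
    have hcw : w * (k : E) = (k : E) * w := by rw [hw, add_mul, mul_add, one_mul, mul_one, mul_assoc, ← hkk]
    have hwa : w * (a : E) = (a : E) * w := by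
      rw [hw, add_mul, mul_add, one_mul, mul_one]; congr 1
      rw [mul_assoc, ← hak, ← mul_assoc, ← hak', mul_assoc, hkk]
    have hka : (a : E) ((k : E) v) = (k' : E) ((a : E) v) := by
      rw [← Module.End.mul_apply, hak, Module.End.mul_apply]
    set g := (b : E) * ((a : E) - (b : E)) with hg
    have hgfix : ∀ x : V, (b : E) (((a : E) - (b : E)) x) = ((a : E) - (b : E)) x := fun x => by
      have h1 := congrArg (fun z : E => z x) h.ba
      have h2 := congrArg (fun z : E => z x) (sub_one_sq hb2)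
      simp only [Module.End.mul_apply, LinearMap.zero_apply, LinearMap.sub_apply, Module.End.one_apply, map_sub,
        sub_eq_zero] at h1 h2 ⊢
      abel_nf at h1 h2 ⊢
      linear_combination (norm := abel) h1 - h2
    have hz : ((a : E) - (b : E)) v = 0 := by
      have hav : w ((a : E) v) = 0 := by rw [← Module.End.mul_apply, hwa, Module.End.mul_apply, hv, map_zero]
      have hcm : ((a : E) - (b : E)) ((k : E) v) = ((k⁻¹ : Eˣ) : E) (((a : E) - (b : E)) v) := by
        simp only [LinearMap.sub_apply, map_sub]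
        rw [hka, hkv _ hav, ← Module.End.mul_apply (b : E), hbk, Module.End.mul_apply]
      refine h.fixedPointFree hc hfree _ (sq_fix h.odd ?_)
      have h2 := hgfix ((k : E) v)
      have hbki : (b : E) * ((k⁻¹ : Eˣ) : E) = (k : E) * b := by
        rw [← Units.val_mul, ← Units.val_mul]; congr 1
        calc b * k⁻¹ = (b * k * b⁻¹)⁻¹ * b := by group
          _ = k * b := by rw [h.inv, inv_inv]
      rw [hcm, ← Module.End.mul_apply (b : E), hbki, Module.End.mul_apply, hgfix v] at h2
      rw [Module.End.mul_apply, h2, ← Module.End.mul_apply (k : E), Units.mul_inv, Module.End.one_apply]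
    simpa [sub_eq_zero] using hz
  intro v
  obtain ⟨y, hy⟩ := (LinearMap.injective_iff_surjective.mp hs) v
  refine ⟨w y, ((k : E) * u) y, ?_, hA _ ?_, hB _ ?_⟩
  · rw [← hy, ← hsum, LinearMap.add_apply, add_comm]
  · rw [← Module.End.mul_apply, huw, LinearMap.zero_apply]
  · rw [← Module.End.mul_apply, ← mul_assoc,
      show w * (k : E) = (k : E) * w by rw [hw, add_mul, mul_add, one_mul, mul_one, mul_assoc, ← hkk],
      mul_assoc, hwu, mul_zero, LinearMap.zero_apply]

end CfsgLib.PGV
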