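import Cfsg.Agent.Lib.PGV.Replacement
import Cfsg.Agent.Lib.PGV.TwoMain

/-!
Assembly of the `P(G,V)`-theorem.
-/

set_option autoImplicit false

namespace CfsgLib.PGV

universe v

theorem gl_no_square {V : Type v} [AddCommGroup V] [Module (ZMod 2) V] [Finite V] (h16 : Nat.card V ≤ 16)
    {q : ℕ} (hq : q.Prime) (hq5 : 5 ≤ q) : ¬ q ^ 2 ∣ Nat.card (Module.End (ZMod 2) V)ˣ := by
  intro hd
  set d := Module.finrank (ZMod 2) V with hd'
  have hV : Nat.card V = 2 ^ d := by rw [Module.natCard_eq_pow_finrank (K := ZMod 2), Nat.card_zmod]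
  have hd4 : d ≤ 4 := by
    rw [hV] at h16
    by_contra hc
    have : 2 ^ 5 ≤ 2 ^ d := Nat.pow_le_pow_right (by norm_num) (by omega)
    omega
  have hcard : Nat.card (Module.End (ZMod 2) V)ˣ = ∏ i : Fin d, (2 ^ d - 2 ^ (i : ℕ)) := by
    rw [Nat.card_congr (Units.mapEquiv (LinearMap.toMatrixAlgEquiv (Module.finBasis (ZMod 2) V)).toMulEquiv).toEquiv,
      show Nat.card (Matrix (Fin (Module.finrank (ZMod 2) V)) (Fin (Module.finrank (ZMod 2) V)) (ZMod 2))ˣ =
        Nat.card (Matrix.GeneralLinearGroup (Fin d) (ZMod 2)) from rfl, Matrix.card_GL_field]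
    simp
  rw [hcard] at hd
  have hq2 : 25 ≤ q ^ 2 := by nlinarith
  interval_cases d <;> simp [Fin.prod_univ_succ] at hd
  all_goals first
    | omega
    | (have hle := Nat.le_of_dvd (by norm_num) hd
       first
         | omega
         | (have h1 : q ∣ _ := (dvd_pow_self q two_ne_zero).trans hd
            have hq141 : q ≤ 141 := by nlinarith
            interval_cases q <;> simp_all (config := { decide := true })))

section Steps

variable {p : ℕ} [Fact p.Prime] {V : Type v} [AddCommGroup V] [Module (ZMod p) V] [Finite V]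

/-- For odd `p` no element acting quadratically moves `K`. -/
theorem quad_move {A K : Subgroup (Module.End (ZMod p) V)ˣ} (hc : Conf p A K) (hp2 : p ≠ 2)
    {a : (Module.End (ZMod p) V)ˣ} (ha : a ∈ A) (hna : a ∉ Subgroup.normalizer (K : Set _))
    (hq : ((a : Module.End (ZMod p) V) - 1) * ((a : Module.End (ZMod p) V) - 1) = 0) : False := by
  obtain ⟨q, k, hqp, hne, hk, ⟨j, hj⟩, hnc⟩ := hc.exists_coprime p
  obtain ⟨T, hT, hTp, hkT, hTn⟩ := orbit_group hqp hne hc ha hna hk (j := j) (hj ▸ pow_orderOf_eq_one k)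
  refine hnc (hc.central_of_fixed ha hna hk ?_)
  rw [quad_centralizes hT hTp hp2 hq hTn k hkT, mul_inv_cancel_right]

/-- After folding, `A` is generated by `A ∩ N(K)` and any element moving `K`. -/
theorem index_prime {A K : Subgroup (Module.End (ZMod p) V)ˣ} (hc : Conf p A K) (hP : Best A)
    (IH : Below.{v} p (Nat.card ↥A)) {a : (Module.End (ZMod p) V)ˣ} (ha : a ∈ A)
    (hna : a ∉ Subgroup.normalizer (K : Set _)) {g : (Module.End (ZMod p) V)ˣ} (hg : g ∈ A) :
    ∃ j : ℕ, g * a ^ j ∈ Subgroup.normalizer (K : Set _) := by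
  by_contra hcon
  push Not at hcon
  obtain ⟨K', hK', hcen⟩ := fold hc ha hna hg hcon
  exact descend hK' hP IH ha (fun h => hna (h ▸ one_mem _)) hcen

end Steps

variable {V : Type v} [AddCommGroup V] [Module (ZMod 2) V] [Finite V]

local notation "E" => Module.End (ZMod 2) V

theorem decompose {A K : Subgroup Eˣ} {a b k : Eˣ} (hc : Conf 2 A K) (hP : Best A) (h : Pair A K a b k)
    (hfaith : ∀ g ∈ A, g ≠ 1 → ¬ ∀ x ∈ K, g * x = x * g) (hcard : ∀ g ∈ A, g ∈ Subgroup.normalizer (K : Set Eˣ) ∨ g * a ∈ Subgroup.normalizer (K : Set Eˣ))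
    (IH : ∀ (W : Type v) [AddCommGroup W] [Module (ZMod 2) W] [Finite W]
      (A' K' : Subgroup (Module.End (ZMod 2) W)ˣ), Nat.card W < Nat.card V → Nat.card ↥A' = Nat.card ↥A →
        Conf 2 A' K' → Best A' → False) : ∀ v : V, (∀ x ∈ K, (x : E) v = v) → v = 0 := by
  haveI : Fact (Nat.Prime 2) := ⟨Nat.prime_two⟩
  obtain ⟨hid, hCk⟩ := h.facts hc
  by_contra hcon
  push Not at hcon
  obtain ⟨v0, hv0, hv0'⟩ := hcon
  set y := (k : E) - 1 with hy
  set U := LinearMap.range y with hU
  set W0 := LinearMap.ker y with hW0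
  have hdisj : ∀ z, z ∈ U → z ∈ W0 → z = 0 := by
    rintro _ ⟨v, rfl⟩ hz
    exact sub_eq_zero.mpr (semisimple_apply h.odd (LinearMap.mem_ker.mp hz))
  have hinf : U ⊓ W0 = ⊥ := eq_bot_iff.mpr fun z hz => (Submodule.mem_bot _).mpr (hdisj z hz.1 hz.2)
  have hsup : U ⊔ W0 = ⊤ := by
    refine Submodule.eq_top_of_finrank_eq ?_
    have h1 := Submodule.finrank_sup_add_finrank_inf_eq U W0
    rw [hinf, finrank_bot, add_zero, hU, hW0, LinearMap.finrank_range_add_finrank_ker] at h1
    exact h1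
  have hW0' : ∀ z, z ∈ W0 ↔ ∀ x ∈ K, (x : E) z = z := by
    intro z
    rw [hW0, LinearMap.mem_ker, hy, LinearMap.sub_apply, Module.End.one_apply, sub_eq_zero]
    exact ⟨hCk z, fun hz => hz k h.kK⟩
  set k' := a * k * a⁻¹ with hk'
  have hkk : Commute k k' := (show Commute k' k from hc.commutes h.aA h.moves k h.kK k h.kK).symm
  set y' := (k' : E) - 1 with hy'
  have hyy : y * y' = y' * y := (sub_one_commute hkk.eq).eq
  have hodd' : ¬ 2 ∣ orderOf k' := by
    rw [hk', show a * k * a⁻¹ = (MulAut.conj a).toMonoidHom k from rfl, orderOf_injective (MulAut.conj a).toMonoidHom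
      (MulAut.conj a).injective k]
    exact h.odd
  have haa : a⁻¹ = a := val_inv_of_sq (hc.exp a h.aA)
  have hconjy : y' * (a : E) = (a : E) * y := by
    rw [hy', hy, sub_mul, mul_sub, one_mul, mul_one, ← Units.val_mul, ← Units.val_mul, hk', inv_mul_cancel_right]
  have hconjy' : y * (a : E) = (a : E) * y' := by
    rw [hy', hy, sub_mul, mul_sub, one_mul, mul_one, ← Units.val_mul, ← Units.val_mul, hk', haa,
      show a * (a * k * a) = a ^ 2 * (k * a) by rw [pow_two]; group, hc.exp a h.aA, one_mul]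
  -- the two ranges agree
  have hW0a : ∀ z, y' z = 0 → z ∈ W0 := by
    intro z hz
    have h1 : y ((a : E) z) = 0 := by rw [← Module.End.mul_apply, hconjy', Module.End.mul_apply, hz, map_zero]
    have h2 := (hW0' ((a : E) z)).mp (LinearMap.mem_ker.mpr h1)
    have h3 : y' ((a : E) z) = 0 := by
      have hsub : ∀ x : ↥K, y' ((a : E) z) = 0 := fun _ => by
        refine sub_eq_zero.mpr (semisimple_apply hodd' ?_)
        have := congrArg (fun f : E => f ((a : E) z)) hid
        rw [show ((k : E) + (k' : E)) * ((k : E) * (k' : E) + 1) =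
          (k : E) * ((k : E) * k') + (k' : E) * ((k : E) * k') + (k : E) + (k' : E) by noncomm_ring] at this
        simp only [LinearMap.add_apply, Module.End.mul_apply, LinearMap.zero_apply] at this
        have hk0 := h2 k h.kK
        have hc1 : (k : E) ((k' : E) ((a : E) z)) = (k' : E) ((a : E) z) := by
          rw [← Module.End.mul_apply, ← Units.val_mul, hkk.eq, Units.val_mul, Module.End.mul_apply, hk0]
        rw [hc1, hc1, hk0] at this
        rw [sub_eq_add_end, LinearMap.add_apply, Module.End.one_apply, LinearMap.add_apply, Module.End.one_apply, map_add]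
        rw [← this]; abel
      exact hsub ⟨1, one_mem K⟩
    refine LinearMap.mem_ker.mpr ?_
    have h4 : (a : E) (y z) = 0 := by rw [← Module.End.mul_apply, ← hconjy, Module.End.mul_apply, h3]
    have := congrArg (a : E) h4
    rwa [← Module.End.mul_apply, ← Units.val_mul, ← pow_two, hc.exp a h.aA, Units.val_one, Module.End.one_apply,
      map_zero] at this
  have hrange : LinearMap.range y' ≤ U := by
    rintro _ ⟨v, rfl⟩
    obtain ⟨u, hu, w, hw, rfl⟩ := Submodule.mem_sup.mp (show v ∈ U ⊔ W0 from hsup ▸ Submodule.mem_top)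
    obtain ⟨u0, rfl⟩ := hu
    have hw' : y' w = 0 := by
      rw [hy', LinearMap.sub_apply, Module.End.one_apply, sub_eq_zero]
      have h1 : y ((a : E) w) = 0 := by
        have : y' w = 0 := by
          have hw0 := (hW0' w).mp hw
          refine sub_eq_zero.mpr (semisimple_apply hodd' ?_)
          have := congrArg (fun f : E => f w) hid
          rw [show ((k : E) + (k' : E)) * ((k : E) * (k' : E) + 1) =
            (k : E) * ((k : E) * k') + (k' : E) * ((k : E) * k') + (k : E) + (k' : E) by noncomm_ring] at this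
          simp only [LinearMap.add_apply, Module.End.mul_apply, LinearMap.zero_apply] at this
          have hc1 : (k : E) ((k' : E) w) = (k' : E) w := by
            rw [← Module.End.mul_apply, ← Units.val_mul, hkk.eq, Units.val_mul, Module.End.mul_apply, hw0 k h.kK]
          rw [hc1, hc1, hw0 k h.kK] at this
          rw [sub_eq_add_end, LinearMap.add_apply, Module.End.one_apply, LinearMap.add_apply, Module.End.one_apply, map_add]
          rw [← this]; abel
        rw [← Module.End.mul_apply, hconjy', Module.End.mul_apply, this, map_zero]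
      have h2 := (hW0' _).mp (LinearMap.mem_ker.mpr h1) k h.kK
      have h3 := congrArg (a : E) h2
      simp only [← Module.End.mul_apply, ← Units.val_mul] at h3
      rwa [show a * (k * a) = k' by rw [hk', haa, mul_assoc], ← pow_two, hc.exp a h.aA, Units.val_one,
        Module.End.one_apply] at h3
    rw [map_add, hw', add_zero, ← Module.End.mul_apply, ← hyy, Module.End.mul_apply]
    exact ⟨_, rfl⟩
  have haU : ∀ z ∈ U, (a : E) z ∈ U := by
    rintro _ ⟨v, rfl⟩
    rw [← Module.End.mul_apply, ← hconjy, Module.End.mul_apply]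
    exact hrange ⟨_, rfl⟩
  have hUeq : ∀ z ∈ U, z ∈ LinearMap.range y' := by
    rintro _ ⟨v, rfl⟩
    obtain ⟨v', hv'⟩ := hrange ⟨(a : E) v, rfl⟩
    refine ⟨(a : E) v', ?_⟩
    rw [← Module.End.mul_apply, hconjy, Module.End.mul_apply, hv', ← Module.End.mul_apply y', hconjy,
      Module.End.mul_apply, ← Module.End.mul_apply, ← Units.val_mul, ← pow_two, hc.exp a h.aA, Units.val_one,
      Module.End.one_apply]
  have hKU : ∀ x ∈ K, ∀ z ∈ U, (x : E) z ∈ U := by
    intro x hx z hz
    obtain ⟨v, rfl⟩ := hUeq z hz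
    refine hrange ⟨(x : E) v, ?_⟩
    rw [← Module.End.mul_apply, ← Module.End.mul_apply, hy', sub_mul, mul_sub, ← Units.val_mul, ← Units.val_mul,
      (show k' * x = x * k' from hc.commutes h.aA h.moves k h.kK x hx), one_mul, mul_one]
  have hxU : ∀ x ∈ K, ∀ v, ((x : E) - 1) v ∈ U := by
    intro x hx v
    obtain ⟨u, hu, w, hw, rfl⟩ := Submodule.mem_sup.mp (show v ∈ U ⊔ W0 from hsup ▸ Submodule.mem_top)
    rw [map_add, LinearMap.sub_apply, LinearMap.sub_apply, Module.End.one_apply, Module.End.one_apply,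
      (hW0' w).mp hw x hx, sub_self, add_zero]
    exact sub_mem (hKU x hx u hu) hu
  have hNU : ∀ g ∈ A, g ∈ Subgroup.normalizer (K : Set Eˣ) → ∀ z ∈ U, (g : E) z ∈ U := by
    rintro g hg hn _ ⟨v, rfl⟩
    have := hxU _ ((Subgroup.mem_normalizer_iff.mp hn k).mp h.kK) ((g : E) v)
    rw [← Module.End.mul_apply, sub_mul, one_mul, ← Units.val_mul, inv_mul_cancel_right, Units.val_mul] at this
    simpa [hy, map_sub] using this
  have hAU : ∀ g ∈ A, ∀ z ∈ U, (g : E) z ∈ U := by
    intro g hg z hz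
    rcases hcard g hg with hn | hn
    · exact hNU g hg hn z hz
    · have := hNU _ (mul_mem hg h.aA) hn _ (haU z hz)
      rwa [← Module.End.mul_apply, ← Units.val_mul, mul_assoc, ← pow_two, hc.exp a h.aA, mul_one] at this
  have hKtriv : ∀ x ∈ K, (∀ z ∈ U, (x : E) z = z) → x = 1 := by
    intro x hx hxz
    refine Units.ext (LinearMap.ext fun v => ?_)
    obtain ⟨u, hu, w, hw, rfl⟩ := Submodule.mem_sup.mp (show v ∈ U ⊔ W0 from hsup ▸ Submodule.mem_top)
    rw [map_add, hxz u hu, (hW0' w).mp hw x hx]; rfl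
  have hW0A : ∀ g ∈ A, ∀ w ∈ W0, (g : E) w ∈ W0 := by
    intro g hg w hw
    rcases hcard g hg with hn | hn
    · refine (hW0' _).mpr fun x hx => ?_
      have := (hW0' w).mp hw (g⁻¹ * x * g) ((Subgroup.mem_normalizer_iff.mp hn _).mpr (by simpa [mul_assoc] using hx))
      rw [← Module.End.mul_apply, ← Units.val_mul, show x * g = g * (g⁻¹ * x * g) by group, Units.val_mul,
        Module.End.mul_apply, this]
    · have h1 : ∀ x ∈ K, (x : E) (((g * a : Eˣ) : E) w) = ((g * a : Eˣ) : E) w := by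
        intro x hx
        have := (hW0' w).mp hw ((g * a)⁻¹ * x * (g * a))
          ((Subgroup.mem_normalizer_iff.mp hn _).mpr (by simpa [mul_assoc] using hx))
        rw [← Module.End.mul_apply, ← Units.val_mul, show x * (g * a) = (g * a) * ((g * a)⁻¹ * x * (g * a)) by group,
          Units.val_mul, Module.End.mul_apply, this]
      have h2 : y ((a : E) ((g : E) w)) = 0 := by
        rw [← Module.End.mul_apply (a : E), ← Units.val_mul, hc.comm a h.aA g hg]
        exact LinearMap.mem_ker.mp ((hW0' _).mpr h1)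
      refine hW0a _ ?_
      have := congrArg (a : E) h2
      rwa [← Module.End.mul_apply (a : E) y, ← hconjy, Module.End.mul_apply, ← Module.End.mul_apply (a : E) (a : E),
        ← Units.val_mul, ← pow_two, hc.exp a h.aA, Units.val_one, Module.End.one_apply, map_zero] at this
  obtain ⟨fA, K', hconf, hfA⟩ := restrict_conf hc U hAU hKU fun x hx hxz y hy => by
    rw [hKtriv x hx hxz, one_mul, mul_one]
  have hinj : Function.Injective fA := by
    rw [← MonoidHom.ker_eq_bot_iff, eq_bot_iff]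
    intro g hg
    rw [Subgroup.mem_bot]
    by_contra hg1
    refine hfaith g g.2 (fun e => hg1 (Subtype.ext e)) fun x hx => ?_
    have hgU : ∀ z ∈ U, ((g : Eˣ) : E) z = z := fun z hz => by
      have := hfA g ⟨z, hz⟩
      rw [MonoidHom.mem_ker.mp hg] at this
      exact this.symm
    refine Units.ext (LinearMap.ext fun v => ?_)
    obtain ⟨u, hu, w, hw, rfl⟩ := Submodule.mem_sup.mp (show v ∈ U ⊔ W0 from hsup ▸ Submodule.mem_top)
    simp only [Units.val_mul, Module.End.mul_apply, map_add, hgU u hu, hgU _ (hKU x hx u hu), (hW0' w).mp hw x hx,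
      (hW0' _).mp (hW0A g g.2 w hw) x hx]
  have hlt : Nat.card ↥U < Nat.card V := by
    have hne : (U : Set V) ≠ Set.univ := fun he => hv0' (hdisj v0 (Set.eq_univ_iff_forall.mp he v0) ((hW0' v0).mpr hv0))
    have := Set.ncard_lt_ncard (Set.ssubset_univ_iff.mpr hne) Set.finite_univ
    rw [Set.ncard_univ, ← Nat.card_coe_set_eq] at this
    exact this
  refine IH ↥U fA.range K' hlt (Nat.card_congr (MonoidHom.ofInjective hinj).toEquiv).symm hconf fun B hB => ?_
  set B0 := (B.comap fA).map A.subtype with hB0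
  have hB0A : B0 ≤ A := Subgroup.map_subtype_le _
  have hcB : Nat.card ↥B0 = Nat.card ↥B := by
    rw [hB0, Subgroup.card_map_of_injective A.subtype_injective,
      ← Subgroup.card_map_of_injective hinj, Subgroup.map_comap_eq_self hB]
  have hprod : ∀ S ≤ A, Nat.card ↥(fixSpace S) = Nat.card ↥(U ⊓ fixSpace S) * Nat.card ↥(W0 ⊓ fixSpace S) := by
    intro S hS
    rw [← Nat.card_prod]
    refine (Nat.card_congr (Equiv.ofBijective (fun z : ↥(U ⊓ fixSpace S) × ↥(W0 ⊓ fixSpace S) =>
      (⟨(z.1 : V) + z.2, add_mem z.1.2.2 z.2.2.2⟩ : ↥(fixSpace S))) ⟨?_, ?_⟩)).symm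
    · rintro ⟨u, w⟩ ⟨u', w'⟩ he
      have he' : (u : V) + w = u' + w' := congrArg Subtype.val he
      have hd := hdisj ((u : V) - u') (sub_mem u.2.1 u'.2.1) (by
        rw [show (u : V) - u' = w' - w by rw [sub_eq_sub_iff_add_eq_add, he', add_comm]]
        exact sub_mem w'.2.1 w.2.1)
      have hu : u = u' := Subtype.ext (sub_eq_zero.mp hd)
      subst hu
      exact Prod.ext rfl (Subtype.ext (add_left_cancel he'))
    · rintro ⟨v, hv⟩
      obtain ⟨u, hu, w, hw, huw⟩ := Submodule.mem_sup.mp (show v ∈ U ⊔ W0 from hsup ▸ Submodule.mem_top)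
      have key : ∀ g ∈ S, (g : E) u = u ∧ (g : E) w = w := by
        intro g hg
        have he : (g : E) u + (g : E) w = u + w := by rw [← map_add, huw]; exact hv g hg
        have hd := hdisj ((g : E) u - u) (sub_mem (hAU g (hS hg) u hu) hu) (by
          rw [show (g : E) u - u = w - (g : E) w by rw [sub_eq_sub_iff_add_eq_add, he, add_comm]]
          exact sub_mem hw (hW0A g (hS hg) w hw))
        refine ⟨sub_eq_zero.mp hd, ?_⟩
        rw [sub_eq_zero.mp hd] at he
        exact add_left_cancel he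
      exact ⟨(⟨u, hu, fun g hg => (key g hg).1⟩, ⟨w, hw, fun g hg => (key g hg).2⟩), Subtype.ext huw⟩
  have hU' : ∀ S' : Subgroup (Module.End (ZMod 2) ↥U)ˣ, ∀ S : Subgroup Eˣ,
      (∀ (v : ↥U), (v : V) ∈ fixSpace S ↔ v ∈ fixSpace S') → Nat.card ↥(fixSpace S') = Nat.card ↥(U ⊓ fixSpace S) := by
    intro S' S hiff
    exact Nat.card_congr
      { toFun := fun v => ⟨(v : ↥U), (v : ↥U).2, (hiff _).mpr v.2⟩
        invFun := fun v => ⟨⟨v, v.2.1⟩, (hiff _).mp v.2.2⟩
        left_inv := fun v => rfl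
        right_inv := fun v => rfl }
  have hA1 := hU' fA.range A fun v => by
    constructor
    · rintro hv _ ⟨g, rfl⟩; exact Subtype.ext ((hfA g v).trans (hv g g.2))
    · intro hv g hg; exact (hfA ⟨g, hg⟩ v).symm.trans (congrArg Subtype.val (hv _ ⟨⟨g, hg⟩, rfl⟩))
  have hB1 := hU' B B0 fun v => by
    constructor
    · intro hv u hu
      obtain ⟨g, rfl⟩ := hB hu
      exact Subtype.ext ((hfA g v).trans (hv g ⟨g, hu, rfl⟩))
    · rintro hv _ ⟨g, hg, rfl⟩
      exact (hfA g v).symm.trans (congrArg Subtype.val (hv _ hg))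
  have hPB := hP B0 hB0A
  rw [hcB, hprod B0 hB0A, hprod A le_rfl, Nat.card_congr (MonoidHom.ofInjective hinj).toEquiv, ← hA1, ← hB1,
    ← mul_assoc, ← mul_assoc] at hPB
  have hmono : Nat.card ↥(W0 ⊓ fixSpace A) ≤ Nat.card ↥(W0 ⊓ fixSpace B0) :=
    Nat.card_mono (Set.toFinite _) (inf_le_inf_left W0 (fixSpace_anti hB0A))
  exact Nat.le_of_mul_le_mul_right ((Nat.mul_le_mul_left _ hmono).trans hPB) Nat.card_pos

theorem swap_false {A K : Subgroup Eˣ} (hc : Conf 2 A K) (hP : Best A) {a : Eˣ} (haA : a ∈ A)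
    (hna : a ∉ Subgroup.normalizer (K : Set Eˣ)) (hA : ∀ g ∈ A, g = 1 ∨ g = a) : False := by
  classical
  haveI : Fact (Nat.Prime 2) := ⟨Nat.prime_two⟩
  obtain ⟨q, k, hq, hq5, hk, ⟨j, hj⟩, hnc⟩ := hc.exists_large
  obtain ⟨T, hT, hT2, hkT, hTn⟩ :=
    orbit_group (p := 2) hq (by omega) hc haA hna hk (j := j) (hj ▸ pow_orderOf_eq_one k)
  set l := k * (a * k * a⁻¹)⁻¹ with hl
  have hlT : l ∈ T := mul_mem hkT (inv_mem (hTn k hkT))
  have hlpow : l ^ q ^ j = 1 := by
    rw [hl, (show Commute k (a * k * a⁻¹)⁻¹ from hT _ hkT _ (inv_mem (hTn k hkT))).mul_pow, inv_pow, conj_pow,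
      show k ^ q ^ j = 1 by rw [← hj, pow_orderOf_eq_one]]
    simp
  have hlodd : ¬ 2 ∣ orderOf l := fun h => by
    have := (Nat.prime_two.dvd_of_dvd_pow (h.trans (orderOf_dvd_of_pow_eq_one hlpow)))
    have := (Nat.prime_dvd_prime_iff_eq Nat.prime_two hq).mp this
    omega
  have hl1 : l ≠ 1 := fun h => hnc (hc.central_of_fixed haA hna hk (mul_inv_eq_one.mp (hl.symm.trans h)).symm)
  have hAcard : Nat.card ↥A ≤ 2 := by
    have : Nat.card ↥A ≤ Nat.card Bool := Nat.card_le_card_of_injective (fun g : ↥A => decide ((g : Eˣ) = a))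
      fun g g' he => by
        simp only [decide_eq_decide] at he
        rcases hA g g.2 with h1 | h1 <;> rcases hA g' g'.2 with h2 | h2
        · exact Subtype.ext (h1.trans h2.symm)
        · exact Subtype.ext ((he.mpr h2).trans h2.symm)
        · exact Subtype.ext (h1.trans (he.mp h1).symm)
        · exact Subtype.ext (h1.trans h2.symm)
    simpa using this
  set F := fixSpace A with hF
  have hVF : Nat.card V ≤ 2 * Nat.card ↥F := by
    have h := hP ⊥ bot_le
    have hb : fixSpace (⊥ : Subgroup Eˣ) = ⊤ := eq_top_iff.mpr fun v _ g hg => by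
      rw [Subgroup.mem_bot.mp hg]; simp
    rw [hb, Subgroup.card_bot, one_mul, Nat.card_congr Submodule.topEquiv.toEquiv] at h
    exact h.trans (Nat.mul_le_mul_right _ hAcard)
  set F' := F.map (k : E) with hF'
  set Z := F ⊓ F' with hZdef
  have hFF' : Nat.card ↥F' = Nat.card ↥F := (Nat.card_congr
    (Submodule.equivMapOfInjective (k : E) (fun x y hxy => by
      have := congrArg ((k⁻¹ : Eˣ) : E) hxy
      rwa [← Module.End.mul_apply, ← Module.End.mul_apply, Units.inv_mul] at this) F).toEquiv).symm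
  have hf : Nat.card ↥F * Nat.card ↥F' = Nat.card ↥(F ⊔ F') * Nat.card ↥(F ⊓ F') := by
    rw [Module.natCard_eq_pow_finrank (K := ZMod 2) (V := ↥F),
      Module.natCard_eq_pow_finrank (K := ZMod 2) (V := ↥F'),
      Module.natCard_eq_pow_finrank (K := ZMod 2) (V := ↥(F ⊔ F')),
      Module.natCard_eq_pow_finrank (K := ZMod 2) (V := ↥(F ⊓ F')),
      ← pow_add, ← pow_add, Submodule.finrank_sup_add_finrank_inf_eq]
  have hZ : Nat.card V ≤ 4 * Nat.card ↥Z := by
    have h1 : Nat.card ↥(F ⊔ F') ≤ Nat.card V := Nat.card_le_card_of_injective _ Subtype.val_injective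
    rw [hFF'] at hf
    have h2 : Nat.card ↥F * Nat.card ↥F ≤ Nat.card V * Nat.card ↥Z := hf.le.trans (Nat.mul_le_mul_right _ h1)
    have hpos : 0 < Nat.card V := Nat.card_pos
    nlinarith [Nat.mul_le_mul hVF hVF]
  have hZle : Z ≤ LinearMap.ker ((l : E) - 1) := by
    rintro v ⟨hv, u, hu, rfl⟩
    have h1 : ((a⁻¹ : Eˣ) : E) ((k : E) u) = (k : E) u := hv a⁻¹ (inv_mem haA)
    have h2 : ((k⁻¹ : Eˣ) : E) ((k : E) u) = u := by
      rw [← Module.End.mul_apply, Units.inv_mul, Module.End.one_apply]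
    have hl' : l = k * a * k⁻¹ * a⁻¹ := by rw [hl]; group
    rw [LinearMap.mem_ker, LinearMap.sub_apply, Module.End.one_apply, sub_eq_zero, hl']
    simp only [Units.val_mul, Module.End.mul_apply, h1, h2, hu a haA]
  have hR : Nat.card ↥(LinearMap.range ((l : E) - 1)) ≤ 4 := by
    have h1 : Nat.card ↥(LinearMap.range ((l : E) - 1)) * Nat.card ↥(LinearMap.ker ((l : E) - 1)) = Nat.card V := by
      rw [Module.natCard_eq_pow_finrank (K := ZMod 2) (V := ↥(LinearMap.range ((l : E) - 1))),
        Module.natCard_eq_pow_finrank (K := ZMod 2) (V := ↥(LinearMap.ker ((l : E) - 1))), ← pow_add,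
        LinearMap.finrank_range_add_finrank_ker, ← Module.natCard_eq_pow_finrank]
    have h2 : Nat.card ↥Z ≤ Nat.card ↥(LinearMap.ker ((l : E) - 1)) := Nat.card_mono (Set.toFinite _) hZle
    have hpos : 0 < Nat.card ↥(LinearMap.ker ((l : E) - 1)) := Nat.card_pos
    exact Nat.le_of_mul_le_mul_right (h1 ▸ hZ.trans (Nat.mul_le_mul_left 4 h2)) hpos
  refine hl1 (Units.ext (LinearMap.ext fun v => semisimple_apply hlodd ?_))
  set r := ((l : E) - 1) v with hr
  have hiter : ∀ i : ℕ, ((l : E) ^ i) r ∈ LinearMap.range ((l : E) - 1) := fun i => by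
    refine ⟨((l : E) ^ i) v, ?_⟩
    rw [hr, ← Module.End.mul_apply, ← Module.End.mul_apply,
      (((Commute.refl (l : E)).sub_left (Commute.one_left _)).pow_right i).eq]
  obtain ⟨d, hd1, hd4, hdr⟩ : ∃ d, 1 ≤ d ∧ d ≤ 4 ∧ ((l : E) ^ d) r = r := by
    have hnot : ¬ Function.Injective
        (fun i : Fin 5 => (⟨((l : E) ^ (i : ℕ)) r, hiter i⟩ : ↥(LinearMap.range ((l : E) - 1)))) := fun hinj => by
      have := Nat.card_le_card_of_injective _ hinj
      simp only [Nat.card_eq_fintype_card (α := Fin 5), Fintype.card_fin] at this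
      omega
    obtain ⟨i, m, him, hne⟩ := Function.not_injective_iff.mp hnot
    have he : ((l : E) ^ (i : ℕ)) r = ((l : E) ^ (m : ℕ)) r := congrArg Subtype.val him
    have hcancel : ∀ i m : ℕ, i < m → ((l : E) ^ i) r = ((l : E) ^ m) r → ((l : E) ^ (m - i)) r = r := by
      intro i m hlt he
      rw [show (l : E) ^ m = (l : E) ^ i * (l : E) ^ (m - i) by rw [← pow_add]; congr 1; omega,
        Module.End.mul_apply, ← Units.val_pow_eq_pow_val l i] at he
      have := congrArg (((l ^ i)⁻¹ : Eˣ) : E) he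
      rw [← Module.End.mul_apply _ ((l ^ i : Eˣ) : E), Units.inv_mul, Module.End.one_apply,
        ← Module.End.mul_apply _ ((l ^ i : Eˣ) : E), Units.inv_mul, Module.End.one_apply] at this
      exact this.symm
    rcases Nat.lt_or_gt_of_ne (fun h => hne (Fin.ext h)) with hlt | hlt
    · exact ⟨m - i, by omega, by omega, hcancel i m hlt he⟩
    · exact ⟨i - m, by omega, by omega, hcancel m i hlt he.symm⟩
  have h1 : Function.IsPeriodicPt (fun x => (l : E) x) d r := by
    show (fun x => (l : E) x)^[d] r = r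
    rw [← Module.End.coe_pow]; exact hdr
  have h2 : Function.IsPeriodicPt (fun x => (l : E) x) (q ^ j) r := by
    show (fun x => (l : E) x)^[q ^ j] r = r
    rw [← Module.End.coe_pow, ← Units.val_pow_eq_pow_val, hlpow]; rfl
  have h3 := h1.gcd h2
  rw [show Nat.gcd d (q ^ j) = 1 from (Nat.Coprime.pow_right j
    ((Nat.Prime.coprime_iff_not_dvd hq).mpr fun hdd => by have := Nat.le_of_dvd (by omega) hdd; omega).symm)] at h3
  rw [LinearMap.sub_apply, Module.End.one_apply, sub_eq_zero]
  exact h3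

theorem quad_count {A K : Subgroup Eˣ} (hc : Conf 2 A K) (hP : Best A) {a b k : Eˣ} (h : Pair A K a b k)
    (hfaith : ∀ g ∈ A, g ≠ 1 → ¬ ∀ x ∈ K, g * x = x * g)
    (hidx : ∀ c ∈ A, c ∉ Subgroup.normalizer (K : Set Eˣ) → ∀ g ∈ A,
      g ∈ Subgroup.normalizer (K : Set Eˣ) ∨ g * c ∈ Subgroup.normalizer (K : Set Eˣ))
    (hall : ∀ g ∈ A, ((g : E) - 1) * ((b : E) - 1) = 0)
    (hfree : ∀ v : V, (∀ x ∈ K, (x : E) v = v) → v = 0) : False := by
  classical
  haveI : Fact (Nat.Prime 2) := ⟨Nat.prime_two⟩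
  set W := LinearMap.range ((b : E) - 1) with hW
  set B := A ⊓ Subgroup.normalizer (K : Set Eˣ) with hBdef
  have hall' : ∀ g ∈ A, ((b : E) - 1) * ((g : E) - 1) = 0 := fun g hg => by
    rw [(sub_one_commute (hc.comm b h.bA g hg)).eq]; exact hall g hg
  have hbfix : ∀ z ∈ W, (b : E) z = z := by
    rintro _ ⟨v, rfl⟩
    have := congrArg (fun f : E => f v) (hall b h.bA)
    simpa [sub_eq_zero] using this
  have hfixW : ∀ g ∈ A, ∀ z ∈ W, (g : E) z = z := by
    rintro g hg _ ⟨v, rfl⟩
    have := congrArg (fun f : E => f v) (hall g hg)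
    simpa [sub_eq_zero] using this
  have hsplit : ∀ c ∈ A, c ∉ Subgroup.normalizer (K : Set Eˣ) → ∀ v : V, ∃ v₁ v₂ : V, v = v₁ + v₂ ∧
      (c : E) v₁ = v₁ ∧ (c : E) v₂ = (b : E) v₂ := fun c hcA hcn =>
    Pair.split hc ⟨hcA, h.bA, hcn, hall c hcA, hall' c hcA, h.kK, h.odd, h.inv, h.nc⟩ hfree
  have hrangeOut : ∀ c ∈ A, c ∉ Subgroup.normalizer (K : Set Eˣ) → ∀ v, ((c : E) - 1) v ∈ W := by
    intro c hcA hcn v
    obtain ⟨v₁, v₂, rfl, h1, h2⟩ := hsplit c hcA hcn v
    refine ⟨v₂, ?_⟩
    simp only [LinearMap.sub_apply, Module.End.one_apply, map_add, h1, h2]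
    abel
  have hBprod : ∀ c ∈ A, c ∉ Subgroup.normalizer (K : Set Eˣ) → ∀ g ∈ B,
      g * c ∉ Subgroup.normalizer (K : Set Eˣ) := fun c _ hcn g hg hgc => hcn (by
    simpa using mul_mem (inv_mem (show g ∈ Subgroup.normalizer (K : Set Eˣ) from hg.2)) hgc)
  have hrange : ∀ g ∈ A, ∀ v, ((g : E) - 1) v ∈ W := by
    intro g hg v
    by_cases hgn : g ∈ Subgroup.normalizer (K : Set Eˣ)
    · have hga := hBprod a h.aA h.moves g ⟨hg, hgn⟩
      have h1 := hrangeOut a h.aA h.moves v
      have h2 := hrangeOut _ (mul_mem hg h.aA) hga v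
      have e : ((g : E) - 1) v = ((((g * a : Eˣ) : E)) - 1) v - (g : E) (((a : E) - 1) v) := by
        simp only [Units.val_mul, LinearMap.sub_apply, Module.End.one_apply, Module.End.mul_apply, map_sub]
        abel
      rw [e, hfixW g hg _ h1]
      exact sub_mem h2 h1
    · exact hrangeOut g hg hgn v
  have hkerb : LinearMap.ker ((b : E) - 1) = W := le_antisymm (h.ker_le hc hfree) fun z hz => by
    simp [LinearMap.mem_ker, hbfix z hz]
  have hV : Nat.card V = Nat.card ↥W * Nat.card ↥W := by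
    conv_rhs => arg 2; rw [← hkerb]
    rw [Module.natCard_eq_pow_finrank (K := ZMod 2) (V := ↥W),
      Module.natCard_eq_pow_finrank (K := ZMod 2) (V := ↥(LinearMap.ker ((b : E) - 1))), ← pow_add, hW,
      LinearMap.finrank_range_add_finrank_ker, ← Module.natCard_eq_pow_finrank]
  have hquad : ∀ g ∈ A, ∀ g' ∈ A, ((g : E) - 1) * ((g' : E) - 1) = 0 := fun g hg g' hg' =>
    LinearMap.ext fun v => by
      rw [Module.End.mul_apply, LinearMap.sub_apply, Module.End.one_apply, hfixW g hg _ (hrange g' hg' v), sub_self,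
        LinearMap.zero_apply]
  have hinvB : ∀ g ∈ B, g ≠ 1 → ∀ v, (g : E) v = v → v ∈ W := by
    intro g hg hg1 v hv
    obtain ⟨k', hk', hodd', hinv', hnc'⟩ := exists_inverted hc hg.1 hg.2 (hfaith g hg.1 hg1)
    have hp' : Pair A K a g k' :=
      ⟨h.aA, hg.1, h.moves, hquad a h.aA g hg.1, hquad g hg.1 a h.aA, hk', hodd', hinv', hnc'⟩
    obtain ⟨u, hu⟩ := hp'.ker_le hc hfree (show v ∈ LinearMap.ker ((g : E) - 1) by simp [hv])
    rw [← hu]; exact hrange g hg.1 u
  have hbN : b ∈ B := by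
    refine ⟨h.bA, ?_⟩
    by_contra hbn
    have h1 := hc.commutes h.bA hbn k h.kK
    rw [h.inv] at h1
    exact h.nc fun y hy => by
      have h2 : Commute k⁻¹ y := h1 y hy
      simpa using h2.inv_left.eq
  have hb1 : b ≠ 1 := fun hb => h.nc (by
    have hk1 : k = k⁻¹ := by
      have := h.inv
      rw [hb] at this
      simpa using this
    have hk2 : k ^ 2 = 1 := by rw [pow_two]; nth_rw 2 [hk1]; exact mul_inv_cancel k
    have : orderOf k = 1 := by
      rcases (Nat.dvd_prime Nat.prime_two).mp (orderOf_dvd_of_pow_eq_one hk2) with h1 | h1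
      · exact h1
      · exact absurd (by rw [h1]) h.odd
    rw [orderOf_eq_one_iff.mp this]
    simp)
  have hfix : fixSpace A = W := le_antisymm (fun v hv => hinvB b hbN hb1 v (hv b h.bA))
    fun v hv g hg => hfixW g hg v hv
  have hAW : Nat.card ↥W ≤ Nat.card ↥A := by
    have h1 := hP ⊥ bot_le
    have hbot : fixSpace (⊥ : Subgroup Eˣ) = ⊤ := eq_top_iff.mpr fun v _ g hg => by
      rw [Subgroup.mem_bot.mp hg]; simp
    rw [hbot, Subgroup.card_bot, one_mul, Nat.card_congr Submodule.topEquiv.toEquiv, hfix, hV] at h1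
    exact Nat.le_of_mul_le_mul_right h1 Nat.card_pos
  have hA2 : Nat.card ↥A ≤ 2 * Nat.card ↥B := by
    let f : ↥A → Bool × ↥B := fun g =>
      if hg : (g : Eˣ) ∈ Subgroup.normalizer (K : Set Eˣ) then (true, ⟨g, g.2, hg⟩)
      else (false, ⟨g * a, mul_mem g.2 h.aA, (hidx a h.aA h.moves g g.2).resolve_left hg⟩)
    have hfinj : Function.Injective f := by
      intro g g' he
      simp only [f] at he
      split_ifs at he with h1 h2 h2 <;> simp only [Prod.mk.injEq] at he
      · exact Subtype.ext (congrArg (fun z : ↥B => (z : Eˣ)) he.2)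
      · exact absurd he.1 (by decide)
      · exact absurd he.1 (by decide)
      · exact Subtype.ext (mul_right_cancel (congrArg (fun z : ↥B => (z : Eˣ)) he.2))
    have := Nat.card_le_card_of_injective f hfinj
    simpa [Nat.card_prod] using this
  have hBW : Nat.card ↥B ≤ Nat.card ↥W := by
    have hex : ∃ v : V, v ∉ W := by
      by_contra hcon
      push Not at hcon
      refine hb1 (Units.ext (LinearMap.ext fun v => ?_))
      rw [hbfix v (hcon v)]; simp
    obtain ⟨v, hv⟩ := hex
    refine Nat.card_le_card_of_injective (fun g : ↥B => (⟨(((g : Eˣ) : E) - 1) v, hrange g g.2.1 v⟩ : ↥W)) ?_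
    intro g g' he
    have he' : ((g : Eˣ) : E) v = ((g' : Eˣ) : E) v := by
      have := congrArg Subtype.val he
      simpa using this
    by_contra hne
    refine hv (hinvB ((g⁻¹ * g' : ↥B) : Eˣ) (g⁻¹ * g').2 (fun h1 => hne ?_) v ?_)
    · exact Subtype.ext (inv_mul_eq_one.mp h1)
    · rw [Subgroup.coe_mul, Subgroup.coe_inv, Units.val_mul, Module.End.mul_apply, ← he', ← Module.End.mul_apply,
        Units.inv_mul, Module.End.one_apply]
  rcases Nat.lt_or_ge (Nat.card ↥B) 4 with hB4 | hB4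
  · have hBp : IsPGroup 2 ↥B := isPGroup_of_exp fun g hg => hc.exp g hg.1
    obtain ⟨n, hn⟩ := IsPGroup.iff_card.mp hBp
    have hn1 : n ≤ 1 := by
      by_contra hcn
      have : 2 ^ 2 ≤ 2 ^ n := Nat.pow_le_pow_right (by norm_num) (by omega)
      omega
    have hB2 : Nat.card ↥B ≤ 2 := hn ▸ (Nat.pow_le_pow_right (by norm_num) hn1)
    have hW4 : Nat.card ↥W ≤ 4 := by omega
    have h16 : Nat.card V ≤ 16 := hV ▸ Nat.mul_le_mul hW4 hW4
    obtain ⟨q, x, hq, hq5, hx, ⟨j, hj⟩, hxnc⟩ := hc.exists_large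
    set x' := a * x * a⁻¹ with hx'
    have hcomm : Commute x x' := (show Commute x' x from hc.commutes h.aA h.moves x hx x hx).symm
    refine gl_no_square h16 hq hq5 ?_
    set T := Subgroup.zpowers x ⊔ Subgroup.zpowers x' with hT
    have hnorm : Subgroup.zpowers x' ≤ Subgroup.normalizer (Subgroup.zpowers x : Set Eˣ) := by
      rw [Subgroup.zpowers_le]
      refine mem_normalizer_of_conj_mem fun y hy => ?_
      obtain ⟨i, rfl⟩ := Subgroup.mem_zpowers_iff.mp hy
      rw [(hcomm.symm.zpow_right i).eq, mul_inv_cancel_right]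
      exact zpow_mem (Subgroup.mem_zpowers x) i
    have hcard := CfsgLib.ZJ.card_mul_eq_of_le_normalizer hnorm
    rw [Nat.card_zpowers, Nat.card_zpowers] at hcard
    have hx'o : orderOf x' = q ^ j := by
      rw [hx', show a * x * a⁻¹ = (MulAut.conj a).toMonoidHom x from rfl,
        orderOf_injective (MulAut.conj a).toMonoidHom (MulAut.conj a).injective x, hj]
    rw [hj, hx'o] at hcard
    set I := Subgroup.zpowers x ⊓ Subgroup.zpowers x'
    have hIdvd : Nat.card ↥I ∣ q ^ j := hj ▸ (Nat.card_zpowers x ▸ Subgroup.card_dvd_of_le inf_le_left)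
    obtain ⟨i, hij, hI⟩ := (Nat.dvd_prime_pow hq).mp hIdvd
    have hlt : i < j := by
      by_contra hge
      have heq : I = Subgroup.zpowers x := Subgroup.eq_of_le_of_card_ge inf_le_left
        (le_of_eq (by rw [Nat.card_zpowers, hj, hI, show i = j by omega]))
      have hxI : x ∈ Subgroup.zpowers x' := (heq.symm ▸ Subgroup.mem_zpowers x : x ∈ I).2
      refine hxnc fun y hy => ?_
      obtain ⟨e, he⟩ := Subgroup.mem_zpowers_iff.mp hxI
      rw [← he]
      exact ((show Commute x' y from hc.commutes h.aA h.moves x hx y hy).zpow_left e).eq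
    have hTcard : q ^ 2 ∣ Nat.card ↥T := by
      have h1 : Nat.card ↥T * q ^ i = q ^ (j + j) := by rw [← hI, ← hcard, pow_add]
      have h2 : q ^ (j + j) = q ^ (j + j - i) * q ^ i := by rw [← pow_add]; congr 1; omega
      rw [Nat.eq_of_mul_eq_mul_right (pow_pos hq.pos i) (h1.trans h2)]
      exact pow_dvd_pow q (by omega)
    exact hTcard.trans (Subgroup.card_subgroup_dvd_card T)
  · -- all fixed spaces outside `B` have the same order
    have hout : ∀ g ∈ B, g * a ∉ Subgroup.normalizer (K : Set Eˣ) := fun g hg => hBprod a h.aA h.moves g hg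
    let C : ↥B → Submodule (ZMod 2) V := fun g => LinearMap.ker ((((g : Eˣ) * a : Eˣ) : E) - 1)
    have hmemC : ∀ (g : ↥B) (v : V), v ∈ C g ↔ (((g : Eˣ) * a : Eˣ) : E) v = v := fun g v => by
      simp [C, sub_eq_zero]
    have hWC : ∀ g : ↥B, W ≤ C g := fun g z hz => (hmemC g z).mpr (hfixW _ (mul_mem g.2.1 h.aA) z hz)
    have hpair : ∀ g g' : ↥B, g ≠ g' → Nat.card ↥(C g) * Nat.card ↥(C g') = Nat.card V * Nat.card ↥W := by
      intro g g' hne
      set c := (g : Eˣ) * a with hc0
      have hcA : c ∈ A := mul_mem g.2.1 h.aA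
      set d := (g' : Eˣ) * (g : Eˣ)⁻¹ with hd
      have hdB : d ∈ B := mul_mem g'.2 (inv_mem g.2)
      have hd1 : d ≠ 1 := fun e => hne (Subtype.ext (mul_inv_eq_one.mp e).symm)
      obtain ⟨k', hk', hodd', hinv', hnc'⟩ := exists_inverted hc hdB.1 hdB.2 (hfaith d hdB.1 hd1)
      have hp' : Pair A K c d k' :=
        ⟨hcA, hdB.1, hout g g.2, hquad c hcA d hdB.1, hquad d hdB.1 c hcA, hk', hodd', hinv', hnc'⟩
      have hdc : ((g' : Eˣ) * a : Eˣ) = d * c := by rw [hd, hc0]; group
      have hsum : C g ⊔ C g' = ⊤ := by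
        rw [eq_top_iff]
        intro v _
        obtain ⟨v₁, v₂, rfl, h1, h2⟩ := hp'.split hc hfree v
        refine Submodule.add_mem_sup ((hmemC g v₁).mpr h1) ((hmemC g' v₂).mpr ?_)
        rw [hdc, Units.val_mul, Module.End.mul_apply, h2, ← Module.End.mul_apply, ← Units.val_mul, ← pow_two,
          hc.exp d hdB.1]
        simp
      have hinf : C g ⊓ C g' = W := by
        refine le_antisymm (fun v hv => hinvB d hdB hd1 v ?_) (le_inf (hWC g) (hWC g'))
        have h1 := (hmemC g v).mp hv.1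
        have h2 := (hmemC g' v).mp hv.2
        rw [hdc, Units.val_mul, Module.End.mul_apply] at h2
        rwa [h1] at h2
      have h1 := Submodule.finrank_sup_add_finrank_inf_eq (C g) (C g')
      rw [hsum, hinf, finrank_top] at h1
      rw [Module.natCard_eq_pow_finrank (K := ZMod 2) (V := ↥(C g)),
        Module.natCard_eq_pow_finrank (K := ZMod 2) (V := ↥(C g')),
        Module.natCard_eq_pow_finrank (K := ZMod 2) (V := V),
        Module.natCard_eq_pow_finrank (K := ZMod 2) (V := ↥W), ← pow_add, ← pow_add, h1]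
    set w := Nat.card ↥W with hw
    have hwpos : 0 < w := Nat.card_pos
    have hsq : ∀ g : ↥B, Nat.card ↥(C g) * Nat.card ↥(C g) = w * w * w := by
      intro g
      letI := Fintype.ofFinite ↥B
      have hc3 : 3 ≤ (Finset.univ.erase g).card + 1 := by
        rw [Finset.card_erase_of_mem (Finset.mem_univ g), Finset.card_univ, ← Nat.card_eq_fintype_card]
        omega
      obtain ⟨g1, hg1, g2, hg2, h12⟩ := Finset.one_lt_card.mp (show 1 < (Finset.univ.erase g).card by omega)
      have e1 := hpair g g1 (Finset.mem_erase.mp hg1).1.symm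
      have e2 := hpair g g2 (Finset.mem_erase.mp hg2).1.symm
      have e3 := hpair g1 g2 h12
      have e4 : Nat.card ↥(C g1) = Nat.card ↥(C g2) :=
        Nat.eq_of_mul_eq_mul_left Nat.card_pos (e1.trans e2.symm)
      rw [← e4] at e3
      have e5 : Nat.card ↥(C g) = Nat.card ↥(C g1) :=
        Nat.eq_of_mul_eq_mul_right Nat.card_pos (e1.trans e3.symm)
      rw [← e5] at e1
      rw [e1, hV]
    obtain ⟨g₀⟩ : Nonempty ↥B := ⟨1⟩
    set c := Nat.card ↥(C g₀) with hcdef
    have hcC : ∀ g : ↥B, Nat.card ↥(C g) = c := fun g =>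
      Nat.mul_self_inj.mp ((hsq g).trans (hsq g₀).symm)
    -- counting vectors outside W
    have hcount : Nat.card ↥B * (c - w) + w ≤ w * w := by
      letI := Fintype.ofFinite V
      letI := Fintype.ofFinite ↥B
      let Wf : Finset V := Finset.univ.filter (fun v => v ∈ W)
      let Cf : ↥B → Finset V := fun g => Finset.univ.filter (fun v => v ∈ C g) \ Wf
      have hWf : Wf.card = w := by
        rw [hw, Nat.card_eq_fintype_card, Fintype.card_subtype]
      have hCf : ∀ g, (Cf g).card = c - w := fun g => by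
        rw [Finset.card_sdiff_of_subset (fun v hv => by
          simp only [Wf, Finset.mem_filter, Finset.mem_univ, true_and] at hv ⊢; exact hWC g hv), hWf, ← hcC g,
          Nat.card_eq_fintype_card, Fintype.card_subtype]
      have hdis : ((Finset.univ : Finset ↥B) : Set ↥B).PairwiseDisjoint Cf := by
        intro g _ g' _ hne
        refine Finset.disjoint_left.mpr fun v hv hv' => ?_
        simp only [Cf, Wf, Finset.mem_sdiff, Finset.mem_filter, Finset.mem_univ, true_and] at hv hv'
        refine hv.2 (hinvB ((g' : Eˣ) * (g : Eˣ)⁻¹) (mul_mem g'.2 (inv_mem g.2))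
          (fun e => hne (Subtype.ext (mul_inv_eq_one.mp e).symm)) v ?_)
        have h1 := (hmemC g v).mp hv.1
        have h2 := (hmemC g' v).mp hv'.1
        rw [show ((g' : Eˣ) * a : Eˣ) = (g' : Eˣ) * (g : Eˣ)⁻¹ * ((g : Eˣ) * a) by group, Units.val_mul,
          Module.End.mul_apply, h1] at h2
        exact h2
      have h1 := Finset.card_le_univ ((Finset.univ.biUnion Cf) ∪ Wf)
      rw [Finset.card_union_of_disjoint (Finset.disjoint_left.mpr fun v hv hvW => by
          obtain ⟨g, -, hg⟩ := Finset.mem_biUnion.mp hv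
          exact (Finset.mem_sdiff.mp hg).2 hvW),
        Finset.card_biUnion hdis, Finset.sum_congr rfl (fun g _ => hCf g), Finset.sum_const, smul_eq_mul,
        Finset.card_univ, ← Nat.card_eq_fintype_card, hWf, ← Nat.card_eq_fintype_card, hV] at h1
      exact h1
    have hwge : 4 ≤ w := hB4.trans hBW
    have hcw : w < c := by
      by_contra hle
      have h1 : c * c ≤ w * w := Nat.mul_le_mul (by omega) (by omega)
      have h2 : 2 * (w * w) ≤ w * w * w := by
        calc 2 * (w * w) = w * w * 2 := by ring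
          _ ≤ _ := Nat.mul_le_mul_left _ (by omega)
      rw [hsq g₀] at h1
      have : 0 < w * w := by positivity
      omega
    obtain ⟨d, hd⟩ : ∃ d, c = w + d := ⟨c - w, by omega⟩
    have hsq0 := hsq g₀
    rw [← hcdef, hd] at hsq0
    rw [hd, Nat.add_sub_cancel_left] at hcount
    have hb2 : w ≤ 2 * Nat.card ↥B := hAW.trans hA2
    have hd2 : d < 2 * w := by
      by_contra hge
      have h3 : Nat.card ↥B * (2 * w) ≤ Nat.card ↥B * d := Nat.mul_le_mul_left _ (by omega)
      have h4 : w * w ≤ Nat.card ↥B * (2 * w) := by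
        calc w * w ≤ (2 * Nat.card ↥B) * w := Nat.mul_le_mul_right _ hb2
          _ = _ := by ring
      omega
    have hw9 : w < 9 := by
      by_contra hge
      have h3 : (w + d) * (w + d) < (3 * w) * (3 * w) := Nat.mul_self_lt_mul_self (by omega)
      have h4 : 9 * (w * w) ≤ w * (w * w) := Nat.mul_le_mul_right _ (by omega)
      nlinarith
    have hbn : 4 ≤ Nat.card ↥B := hB4
    interval_cases w
    all_goals (interval_cases d <;> first | omega | nlinarith)

theorem main : ∀ (p : ℕ) [Fact p.Prime] (n m : ℕ) (V : Type v) [AddCommGroup V] [Module (ZMod p) V] [Finite V]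
    (A K : Subgroup (Module.End (ZMod p) V)ˣ), Nat.card ↥A = n → Nat.card V = m → Conf p A K → Best A → False := by
  intro p _ n
  induction n using Nat.strong_induction_on with
  | _ n ihn =>
  intro m
  induction m using Nat.strong_induction_on with
  | _ m ihm =>
  intro V _ _ _ A K hAn hVm hc hP
  subst hAn hVm
  have IH : Below.{v} p (Nat.card ↥A) := fun W _ _ _ A' K' hlt hc' hP' => ihn _ hlt _ W A' K' rfl rfl hc' hP'
  have IH2 : ∀ (W : Type v) [AddCommGroup W] [Module (ZMod p) W] [Finite W]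
      (A' K' : Subgroup (Module.End (ZMod p) W)ˣ), Nat.card W < Nat.card V → Nat.card ↥A' = Nat.card ↥A →
        Conf p A' K' → Best A' → False := fun W _ _ _ A' K' hlt hA' => ihm _ hlt W A' K' hA' rfl
  have hfaith : ∀ g ∈ A, g ≠ 1 → ¬ ∀ x ∈ K, g * x = x * g := fun g hg hg1 h => descend hc hP IH hg hg1 h
  obtain ⟨a, haA, hna⟩ := hc.moves
  have hAne : A ≠ ⊥ := fun h => hna (Subgroup.mem_bot.mp (h ▸ haA) ▸ one_mem _)
  obtain ⟨C, hCA, hCne, hCbest, hCq⟩ := replacement hc.comm hc.exp hP hAne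
  have hCcase : C = A ∨ C ≤ Subgroup.normalizer (K : Set _) := by
    by_contra hcon
    push Not at hcon
    obtain ⟨hne, hnle⟩ := hcon
    obtain ⟨c, hcC, hcn⟩ := SetLike.not_le_iff_exists.mp hnle
    have hlt : Nat.card ↥C < Nat.card ↥A :=
      lt_of_not_ge fun hge => hne (Subgroup.eq_of_le_of_card_ge hCA hge)
    exact ihn _ hlt _ V C K rfl rfl
      ⟨fun x hx y hy => hc.comm x (hCA hx) y (hCA hy), fun x hx => hc.exp x (hCA hx), hc.perfect, hc.ne, hc.norm,
        fun x hx => hc.dich x (hCA hx), ⟨c, hcC, hcn⟩⟩ hCbest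
  by_cases hp2 : p = 2
  · subst hp2
    have hidx : ∀ c ∈ A, c ∉ Subgroup.normalizer (K : Set _) → ∀ g ∈ A,
        g ∈ Subgroup.normalizer (K : Set _) ∨ g * c ∈ Subgroup.normalizer (K : Set _) := by
      intro c hcA hcn g hg
      obtain ⟨j, hj⟩ := index_prime hc hP IH hcA hcn hg
      obtain ⟨t, rfl | rfl⟩ := Nat.even_or_odd' j
      · rw [pow_mul, hc.exp c hcA, one_pow, mul_one] at hj; exact Or.inl hj
      · rw [pow_succ, pow_mul, hc.exp c hcA, one_pow, one_mul] at hj; exact Or.inr hj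
    by_cases hB : ∀ g ∈ A, g ∈ Subgroup.normalizer (K : Set _) → g = 1
    · refine swap_false hc hP haA hna fun g hg => ?_
      rcases hidx a haA hna g hg with h | h
      · exact Or.inl (hB g hg h)
      · right
        rw [← val_inv_of_sq (hc.exp a haA)]
        exact eq_inv_of_mul_eq_one_left (hB _ (mul_mem hg haA) h)
    push Not at hB
    obtain ⟨b0, hb0A, hb0n, hb0ne⟩ := hB
    obtain ⟨b, hbC, hbn, hb1⟩ : ∃ b ∈ C, b ∈ Subgroup.normalizer (K : Set _) ∧ b ≠ 1 := by
      rcases hCcase with hCeq | hCle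
      · exact ⟨b0, hCeq ▸ hb0A, hb0n, hb0ne⟩
      · obtain ⟨b, hb, hb1⟩ := (C.bot_or_exists_ne_one).resolve_left hCne
        exact ⟨b, hb, hCle hb, hb1⟩
    obtain ⟨k, hk, hodd, hinv, hnc⟩ := exists_inverted hc (hCA hbC) hbn (hfaith b (hCA hbC) hb1)
    have hall : ∀ g ∈ A, ((g : Module.End (ZMod 2) V) - 1) * ((b : Module.End (ZMod 2) V) - 1) = 0 := fun g hg => by
      rw [(sub_one_commute (hc.comm g hg b (hCA hbC))).eq]; exact hCq g hg b hbC
    have hpair : Pair A K a b k := ⟨haA, hCA hbC, hna, hall a haA, hCq a haA b hbC, hk, hodd, hinv, hnc⟩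
    exact quad_count hc hP hpair hfaith hidx hall (decompose hc hP hpair hfaith (hidx a haA hna) IH2)
  · rcases hCcase with hCeq | hCle
    · exact quad_move hc hp2 haA hna (hCq a haA a (hCeq ▸ haA))
    · obtain ⟨b, hb, hb1⟩ := (C.bot_or_exists_ne_one).resolve_left hCne
      refine hfaith b (hCA hb) hb1 (odd_centralize hc hp2 haA hna (hCA hb) (hCle hb) (hCq b (hCA hb) b hb) ?_
        (hCq a haA b hb))
      rw [(sub_one_commute (hc.comm a haA b (hCA hb))).eq]; exact hCq a haA b hb

end CfsgLib.PGV
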