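import Cfsg.Agent.Lib.PGV.Semi

/-!
Odd `p`: a quadratic map normalizing `K` whose range is fixed by a map moving `K` centralizes `K`.
-/

set_option autoImplicit false

namespace CfsgLib.PGV

universe v

variable {p : ℕ} [Fact p.Prime] {V : Type v} [AddCommGroup V] [Module (ZMod p) V] [Finite V]

/-- The span of a set of units. -/
abbrev ring (K : Subgroup (Module.End (ZMod p) V)ˣ) : Subalgebra (ZMod p) (Module.End (ZMod p) V) :=
  Algebra.adjoin (ZMod p) ((fun u : (Module.End (ZMod p) V)ˣ => (u : Module.End (ZMod p) V)) '' (K : Set _))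

theorem mem_ring {K : Subgroup (Module.End (ZMod p) V)ˣ} {k : (Module.End (ZMod p) V)ˣ} (hk : k ∈ K) :
    (k : Module.End (ZMod p) V) ∈ ring K :=
  Algebra.subset_adjoin (Set.mem_image_of_mem _ hk)

/-- The next term of the filtration of `V` relative to `β`. -/
def nextSpace (K : Subgroup (Module.End (ZMod p) V)ˣ) (β : Module.End (ZMod p) V) (S : Submodule (ZMod p) V) :
    Submodule (ZMod p) V :=
  ⨅ x : ↥(ring K), (S.comap (β * x.1 * β) ⊓ S.comap (β * x.1 - x.1 * β))

theorem mem_nextSpace {K : Subgroup (Module.End (ZMod p) V)ˣ} {β : Module.End (ZMod p) V}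
    {S : Submodule (ZMod p) V} {v : V} :
    v ∈ nextSpace K β S ↔ ∀ x ∈ ring K, (β * x * β) v ∈ S ∧ (β * x - x * β) v ∈ S := by
  simp [nextSpace, Submodule.mem_iInf, Subtype.forall]

/-- Invariance under the span of `K`. -/
def Inv (K : Subgroup (Module.End (ZMod p) V)ˣ) (S : Submodule (ZMod p) V) : Prop :=
  ∀ r ∈ ring K, ∀ v ∈ S, r v ∈ S

theorem nextSpace_inv {K : Subgroup (Module.End (ZMod p) V)ˣ} {β : Module.End (ZMod p) V}
    (hf : ∀ x ∈ ring K, β * x * β ∈ ring K)
    (hcen : ∀ x ∈ ring K, ∀ y ∈ ring K, β * x * β * y = y * (β * x * β))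
    {S : Submodule (ZMod p) V} (hS : Inv K S) : Inv K (nextSpace K β S) := by
  intro r hr v hv
  rw [mem_nextSpace] at hv ⊢
  intro x hx
  refine ⟨?_, ?_⟩
  · rw [← Module.End.mul_apply, hcen x hx r hr, Module.End.mul_apply]
    exact hS r hr _ (hv x hx).1
  · have e : (β * x - x * β) * r = (β * (x * r) - x * r * β) - x * (β * r - r * β) := by noncomm_ring
    rw [← Module.End.mul_apply, e, LinearMap.sub_apply, Module.End.mul_apply]
    exact sub_mem (hv _ (mul_mem hx hr)).2 (hS x hx _ (hv r hr).2)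

theorem le_nextSpace {K : Subgroup (Module.End (ZMod p) V)ˣ} {β : Module.End (ZMod p) V}
    (hd : ∀ x ∈ ring K, β * x - x * β ∈ ring K ∧ β * x * β ∈ ring K)
    {S : Submodule (ZMod p) V} (hS : Inv K S) : S ≤ nextSpace K β S := fun v hv =>
  mem_nextSpace.mpr fun x hx => ⟨hS _ (hd x hx).2 v hv, hS _ (hd x hx).1 v hv⟩

theorem lt_nextSpace {K : Subgroup (Module.End (ZMod p) V)ˣ} {β : Module.End (ZMod p) V} (hq : β * β = 0)
    (hd : ∀ x ∈ ring K, β * x - x * β ∈ ring K ∧ β * x * β ∈ ring K)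
    (hcen : ∀ x ∈ ring K, ∀ y ∈ ring K, β * x * β * y = y * (β * x * β))
    {S : Submodule (ZMod p) V} (hS : Inv K S) (hne : S ≠ ⊤) : S < nextSpace K β S := by
  classical
  letI := Fintype.ofFinite ↥(ring K)
  have hw : ∀ T : Finset ↥(ring K), ∃ w, w ∉ S ∧ ∀ x ∈ T, (β * x.1 * β) w ∈ S := by
    intro T
    induction T using Finset.induction with
    | empty =>
      obtain ⟨w, hw⟩ := SetLike.exists_not_mem_of_ne_top S hne rfl
      exact ⟨w, hw, by simp⟩
    | @insert x T _ ih =>
      obtain ⟨w, hw, hall⟩ := ih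
      by_cases hx : (β * x.1 * β) w ∈ S
      · exact ⟨w, hw, fun y hy => (Finset.mem_insert.mp hy).elim (fun e => e ▸ hx) (hall y)⟩
      · refine ⟨_, hx, fun y hy => ?_⟩
        rcases Finset.mem_insert.mp hy with rfl | hy
        · rw [← Module.End.mul_apply, show β * y.1 * β * (β * y.1 * β) = β * y.1 * (β * β) * y.1 * β by noncomm_ring,
            hq]
          simp
        · rw [← Module.End.mul_apply, hcen y.1 y.2 _ (hd x.1 x.2).2, Module.End.mul_apply]
          exact hS _ (hd x.1 x.2).2 _ (hall y hy)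
  obtain ⟨w, hw, hall⟩ := hw Finset.univ
  have hallw : ∀ x ∈ ring K, (β * x * β) w ∈ S := fun x hx => hall ⟨x, hx⟩ (Finset.mem_univ _)
  refine lt_of_le_of_ne (le_nextSpace hd hS) fun heq => ?_
  by_cases hall2 : ∀ x ∈ ring K, (β * x - x * β) w ∈ S
  · exact hw (heq ▸ mem_nextSpace.mpr fun x hx => ⟨hallw x hx, hall2 x hx⟩)
  push Not at hall2
  obtain ⟨y, hy, hyw⟩ := hall2
  refine hyw (heq ▸ mem_nextSpace.mpr fun x hx => ⟨?_, ?_⟩)
  · rw [← Module.End.mul_apply, hcen x hx _ (hd y hy).1, Module.End.mul_apply]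
    exact hS _ (hd y hy).1 _ (hallw x hx)
  · rw [← Module.End.mul_apply, delta_mul hq, LinearMap.add_apply, LinearMap.sub_apply]
    refine add_mem (sub_mem ?_ (hallw _ (mul_mem hx hy))) ?_
    · rw [hcen x hx y hy, Module.End.mul_apply]; exact hS y hy _ (hallw x hx)
    · rw [Module.End.mul_apply]; exact hS x hx _ (hallw y hy)

theorem odd_centralize {A K : Subgroup (Module.End (ZMod p) V)ˣ} (hc : Conf p A K) (hp2 : p ≠ 2)
    {a : (Module.End (ZMod p) V)ˣ} (ha : a ∈ A) (hna : a ∉ Subgroup.normalizer (K : Set _))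
    {b : (Module.End (ZMod p) V)ˣ} (hbA : b ∈ A) (hb : b ∈ Subgroup.normalizer (K : Set _))
    (hbb : ((b : Module.End (ZMod p) V) - 1) * ((b : Module.End (ZMod p) V) - 1) = 0)
    (hab : ((a : Module.End (ZMod p) V) - 1) * ((b : Module.End (ZMod p) V) - 1) = 0)
    (hba : ((b : Module.End (ZMod p) V) - 1) * ((a : Module.End (ZMod p) V) - 1) = 0) :
    ∀ x ∈ K, b * x = x * b := by
  set β := (b : Module.End (ZMod p) V) - 1 with hβ
  have hbn : ∀ t ∈ K, b * t * b⁻¹ ∈ K := fun t ht => (Subgroup.mem_normalizer_iff.mp hb t).mp ht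
  have hd : ∀ x ∈ ring K, β * x - x * β ∈ ring K ∧ β * x * β ∈ ring K := fun x hx =>
    quad_parts hp2 hβ hbb (adjoin_invariant hbn) hx
  have haβ : (a : Module.End (ZMod p) V) * β = β := by
    rw [show (a : Module.End (ZMod p) V) = ((a : Module.End (ZMod p) V) - 1) + 1 by abel, add_mul, hab, zero_add, one_mul]
  have hβa : β * ((a⁻¹ : _) : (Module.End (ZMod p) V)ˣ) = β := by
    have h : β * (a : Module.End (ZMod p) V) = β := by
      rw [show (a : Module.End (ZMod p) V) = ((a : Module.End (ZMod p) V) - 1) + 1 by abel, mul_add, hba, zero_add, mul_one]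
    calc β * ((a⁻¹ : _) : (Module.End (ZMod p) V)ˣ) = β * a * ((a⁻¹ : _) : (Module.End (ZMod p) V)ˣ) := by rw [h]
      _ = β := by rw [mul_assoc, Units.mul_inv, mul_one]
  have hK' : ∀ x ∈ ring K, ∀ y ∈ ring K,
      Commute ((a : Module.End (ZMod p) V) * x * ((a⁻¹ : _) : (Module.End (ZMod p) V)ˣ)) y := by
    intro x hx y hy
    induction hx using Algebra.adjoin_induction with
    | mem z hz =>
      obtain ⟨u, hu, rfl⟩ := hz
      refine commute_adjoin (S := {((a * u * a⁻¹ : _) : (Module.End (ZMod p) V)ˣ).val}) ?_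
        (Algebra.subset_adjoin (by simp)) hy
      rintro _ rfl _ ⟨w, hw, rfl⟩
      exact congrArg Units.val (hc.commutes ha hna u hu w hw)
    | algebraMap c =>
      rw [← Algebra.commutes c, mul_assoc, Units.mul_inv, mul_one]; exact Algebra.commutes c y
    | add u w _ _ ihu ihw => rw [mul_add, add_mul]; exact ihu.add_left ihw
    | mul u w _ _ ihu ihw =>
      have := ihu.mul_left ihw
      simpa [mul_assoc] using this
  have hcen : ∀ x ∈ ring K, ∀ y ∈ ring K, β * x * β * y = y * (β * x * β) := by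
    intro x hx y hy
    have := (hK' _ (hd x hx).2 y hy).eq
    rwa [show (a : Module.End (ZMod p) V) * (β * x * β) * ((a⁻¹ : _) : (Module.End (ZMod p) V)ˣ) =
      ((a : Module.End (ZMod p) V) * β) * x * (β * ((a⁻¹ : _) : (Module.End (ZMod p) V)ˣ)) by noncomm_ring,
      haβ, hβa] at this
  let F : ℕ → Submodule (ZMod p) V := fun n => (nextSpace K β)^[n] ⊥
  have hFs : ∀ n, F (n + 1) = nextSpace K β (F n) := fun n => Function.iterate_succ_apply' _ _ _
  have hFinv : ∀ n, Inv K (F n) := by
    intro n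
    induction n with
    | zero => intro r _ v hv; rw [show v = 0 from (Submodule.mem_bot _).mp hv, map_zero]; exact zero_mem _
    | succ n ih => rw [hFs]; exact nextSpace_inv (fun x hx => (hd x hx).2) hcen ih
  obtain ⟨N, hN⟩ : ∃ N, F N = ⊤ := by
    by_contra hcon
    push Not at hcon
    have hlt : ∀ n, Module.finrank (ZMod p) ↥(F n) ≥ n := by
      intro n
      induction n with
      | zero => exact Nat.zero_le _
      | succ n ih =>
        have := Submodule.finrank_lt_finrank_of_lt (lt_nextSpace hbb hd hcen (hFinv n) (hcon n))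
        rw [← hFs] at this
        omega
    have := hlt (Module.finrank (ZMod p) V + 1)
    have := Submodule.finrank_le (F (Module.finrank (ZMod p) V + 1))
    omega
  let L : Subgroup (Module.End (ZMod p) V)ˣ :=
    { carrier := {g | g ∈ K ∧ ∀ n, ∀ v ∈ F (n + 1), ((g : Module.End (ZMod p) V) - 1) v ∈ F n}
      one_mem' := ⟨one_mem K, fun n v _ => by simp⟩
      mul_mem' := fun {g h} hg hh => ⟨mul_mem hg.1 hh.1, fun n v hv => by
        rw [Units.val_mul, show (g : Module.End (ZMod p) V) * h - 1 =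
          (g : Module.End (ZMod p) V) * ((h : Module.End (ZMod p) V) - 1) + ((g : Module.End (ZMod p) V) - 1) by noncomm_ring,
          LinearMap.add_apply, Module.End.mul_apply]
        exact add_mem (hFinv n _ (mem_ring hg.1) _ (hh.2 n v hv)) (hg.2 n v hv)⟩
      inv_mem' := fun {g} hg => ⟨inv_mem hg.1, fun n v hv => by
        rw [show ((g⁻¹ : _) : (Module.End (ZMod p) V)ˣ).val - 1 =
          -(((g⁻¹ : _) : (Module.End (ZMod p) V)ˣ).val * ((g : Module.End (ZMod p) V) - 1)) by
            rw [mul_sub, Units.inv_mul, mul_one, neg_sub], LinearMap.neg_apply, Module.End.mul_apply]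
        exact neg_mem (hFinv n _ (mem_ring (inv_mem hg.1)) _ (hg.2 n v hv))⟩ }
  have hLn : ∀ k ∈ K, ∀ g ∈ L, k * g * k⁻¹ ∈ L := by
    intro k hk g hg
    refine ⟨mul_mem (mul_mem hk hg.1) (inv_mem hk), fun n v hv => ?_⟩
    rw [Units.val_mul, Units.val_mul, show (k : Module.End (ZMod p) V) * g * ((k⁻¹ : _) : (Module.End (ZMod p) V)ˣ) - 1 =
      (k : Module.End (ZMod p) V) * (((g : Module.End (ZMod p) V) - 1) * ((k⁻¹ : _) : (Module.End (ZMod p) V)ˣ).val) by
        rw [sub_mul, mul_sub, one_mul, Units.mul_inv, mul_assoc], Module.End.mul_apply, Module.End.mul_apply]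
    exact hFinv n _ (mem_ring hk) _ (hg.2 n _ (hFinv (n + 1) _ (mem_ring (inv_mem hk)) v hv))
  have hLp : IsPGroup p ↥L := by
    intro g
    refine ⟨N, Subtype.ext (Units.ext ?_)⟩
    have hnil : ∀ n, ∀ v ∈ F n, (((((g : (Module.End (ZMod p) V)ˣ)) : Module.End (ZMod p) V) - 1) ^ n) v = 0 := by
      intro n
      induction n with
      | zero => intro v hv; simpa using (Submodule.mem_bot _).mp hv
      | succ n ih =>
        intro v hv
        rw [pow_succ, Module.End.mul_apply]
        exact ih _ (g.2.2 n v hv)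
    have h0 : ((((g : (Module.End (ZMod p) V)ˣ)) : Module.End (ZMod p) V) - 1) ^ N = 0 :=
      LinearMap.ext fun v => hnil N v (hN ▸ Submodule.mem_top)
    show (((g ^ p ^ N : ↥L) : (Module.End (ZMod p) V)ˣ) : Module.End (ZMod p) V) = 1
    rw [SubgroupClass.coe_pow, Units.val_pow_eq_pow_val]
    rcases subsingleton_or_nontrivial V with hV | hV
    · exact LinearMap.ext fun v => Subsingleton.elim _ _
    haveI : CharP (Module.End (ZMod p) V) p :=
      charP_of_injective_algebraMap (algebraMap (ZMod p) (Module.End (ZMod p) V)).injective p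
    set γ := (((g : (Module.End (ZMod p) V)ˣ)) : Module.End (ZMod p) V) - 1 with hγ
    rw [show (((g : (Module.End (ZMod p) V)ˣ)) : Module.End (ZMod p) V) = γ + 1 by rw [hγ]; abel,
      add_pow_char_pow_of_commute _ _ (Commute.one_right γ), one_pow]
    have hle : N ≤ p ^ N := (Nat.lt_pow_self (Fact.out : p.Prime).one_lt).le
    rw [show p ^ N = N + (p ^ N - N) by omega, pow_add, h0, zero_mul, zero_add]
  have hcent := hc.pgroup_central L (fun g hg => hg.1) hLn hLp
  refine hc.centralize_of_central hb fun x hx => hcent _ ⟨mul_mem (hbn x hx) (inv_mem hx), fun n v hv => ?_⟩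
  have hbe : (b : Module.End (ZMod p) V) = 1 + β := by rw [hβ]; abel
  have hbi : (((b⁻¹ : _) : (Module.End (ZMod p) V)ˣ) : Module.End (ZMod p) V) = 1 - β := by
    refine Units.inv_eq_of_mul_eq_one_right ?_
    rw [hbe, show (1 + β) * (1 - β) = 1 - β * β by noncomm_ring, hbb, sub_zero]
  set w := (((x⁻¹ : _) : (Module.End (ZMod p) V)ˣ) : Module.End (ZMod p) V) v with hw
  have hwmem : w ∈ nextSpace K β (F n) := hFs n ▸ hFinv (n + 1) _ (mem_ring (inv_mem hx)) v hv
  have hv' : v = (x : Module.End (ZMod p) V) w := by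
    rw [hw, ← Module.End.mul_apply, Units.mul_inv, Module.End.one_apply]
  have := mem_nextSpace.mp hwmem x.val (mem_ring hx)
  rw [LinearMap.sub_apply, Module.End.one_apply, Units.val_mul, Units.val_mul, Units.val_mul, hbe, hbi,
    Module.End.mul_apply, ← hw, conj_expand, hv']
  rw [LinearMap.sub_apply, LinearMap.add_apply, add_sub_assoc, add_sub_cancel_left]
  exact sub_mem this.2 this.1

end CfsgLib.PGV
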