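import Cfsg.Agent.Lib.PGV.Basic

/-!
Abelian `p'`-groups of linear maps over `ZMod p` span reduced rings; consequences for quadratic maps.
-/

set_option autoImplicit false

namespace CfsgLib.PGV

universe v

variable {p : ℕ} [Fact p.Prime] {V : Type v} [AddCommGroup V] [Module (ZMod p) V] [Finite V]

instance finiteEnd : Finite (Module.End (ZMod p) V) :=
  Finite.of_injective (fun f => ⇑f) DFunLike.coe_injective

instance finiteUnitsEnd : Finite (Module.End (ZMod p) V)ˣ :=
  Finite.of_injective (fun u => (u : Module.End (ZMod p) V)) fun a b h => Units.ext h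

/-- The common fixed space of a group of linear maps. -/
def fixSpace (S : Subgroup (Module.End (ZMod p) V)ˣ) : Submodule (ZMod p) V where
  carrier := {v | ∀ g ∈ S, (g : Module.End (ZMod p) V) v = v}
  add_mem' := fun {x y} hx hy g hg => by rw [map_add, hx g hg, hy g hg]
  zero_mem' := fun g _ => map_zero _
  smul_mem' := fun c x hx g hg => by rw [map_smul, hx g hg]

omit [Finite V] in
theorem mem_fixSpace {S : Subgroup (Module.End (ZMod p) V)ˣ} {v : V} :
    v ∈ fixSpace S ↔ ∀ g ∈ S, (g : Module.End (ZMod p) V) v = v := Iff.rfl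

omit [Finite V] in
theorem fixSpace_anti {S T : Subgroup (Module.End (ZMod p) V)ˣ} (h : S ≤ T) : fixSpace T ≤ fixSpace S :=
  fun _ hv g hg => hv g (h hg)

omit [Finite V] in
theorem coe_set_commute {T : Subgroup (Module.End (ZMod p) V)ˣ} (hT : ∀ a ∈ T, ∀ b ∈ T, a * b = b * a) :
    ∀ x ∈ (fun u : (Module.End (ZMod p) V)ˣ => (u : Module.End (ZMod p) V)) '' (T : Set _),
      ∀ y ∈ (fun u : (Module.End (ZMod p) V)ˣ => (u : Module.End (ZMod p) V)) '' (T : Set _), Commute x y := by
  rintro _ ⟨a, ha, rfl⟩ _ ⟨b, hb, rfl⟩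
  exact congrArg Units.val (hT a ha b hb)

omit [Finite V] in
theorem commute_adjoin {S T : Set (Module.End (ZMod p) V)} (h : ∀ x ∈ S, ∀ y ∈ T, Commute x y)
    {r s : Module.End (ZMod p) V} (hr : r ∈ Algebra.adjoin (ZMod p) S) (hs : s ∈ Algebra.adjoin (ZMod p) T) :
    Commute r s := by
  induction hs using Algebra.adjoin_induction with
  | mem y hy =>
    induction hr using Algebra.adjoin_induction with
    | mem x hx => exact h x hx y hy
    | algebraMap c => exact Algebra.commutes c y
    | add a b _ _ iha ihb => exact iha.add_left ihb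
    | mul a b _ _ iha ihb => exact iha.mul_left ihb
  | algebraMap c => exact (Algebra.commutes c r).symm
  | add a b _ _ iha ihb => exact iha.add_right ihb
  | mul a b _ _ iha ihb => exact iha.mul_right ihb

/-- The ring spanned by an abelian `p'`-group has no nonzero nilpotents. -/
theorem eq_zero_of_pow_eq_zero {T : Subgroup (Module.End (ZMod p) V)ˣ} (hT : ∀ a ∈ T, ∀ b ∈ T, a * b = b * a)
    (hp : ¬ p ∣ Nat.card ↥T) {r : Module.End (ZMod p) V}
    (hr : r ∈ Algebra.adjoin (ZMod p) ((fun u : (Module.End (ZMod p) V)ˣ => (u : Module.End (ZMod p) V)) '' (T : Set _)))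
    {n : ℕ} (hn : r ^ n = 0) : r = 0 := by
  rcases subsingleton_or_nontrivial V with hV | hV
  · exact LinearMap.ext fun v => Subsingleton.elim _ _
  haveI : CharP (Module.End (ZMod p) V) p :=
    charP_of_injective_algebraMap (algebraMap (ZMod p) (Module.End (ZMod p) V)).injective p
  have hp' : p.Prime := Fact.out
  set c := Nat.card ↥T with hc
  set j := Nat.totient c with hj
  have hmod : p ^ j ≡ 1 [MOD c] := Nat.ModEq.pow_totient (hp'.coprime_iff_not_dvd.mpr hp)
  have hj1 : 1 ≤ j := Nat.totient_pos.mpr Nat.card_pos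
  have hN1 : 1 ≤ p ^ j := Nat.one_le_pow _ _ hp'.pos
  have key : ∀ s ∈ Algebra.adjoin (ZMod p) ((fun u : (Module.End (ZMod p) V)ˣ => (u : Module.End (ZMod p) V)) '' (T : Set _)),
      s ^ p ^ j = s := by
    intro s hs
    induction hs using Algebra.adjoin_induction with
    | mem x hx =>
      obtain ⟨u, hu, rfl⟩ := hx
      obtain ⟨m, hm⟩ := (Nat.modEq_iff_dvd' hN1).mp hmod.symm
      have hu1 : u ^ c = 1 := by
        exact congrArg Subtype.val (pow_card_eq_one' (x := (⟨u, hu⟩ : ↥T)))
      have : u ^ p ^ j = u := by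
        rw [show p ^ j = 1 + c * m by omega, pow_add, pow_one, pow_mul, hu1, one_pow, mul_one]
      exact (Units.val_pow_eq_pow_val u _).symm.trans (congrArg Units.val this)
    | algebraMap a => rw [← map_pow, ZMod.pow_card_pow]
    | add a b ha hb iha ihb =>
      rw [add_pow_char_pow_of_commute _ _ (commute_adjoin (coe_set_commute hT) ha hb), iha, ihb]
    | mul a b ha hb iha ihb =>
      rw [(commute_adjoin (coe_set_commute hT) ha hb).mul_pow, iha, ihb]
  have hit : ∀ m, r ^ (p ^ j) ^ m = r := by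
    intro m
    induction m with
    | zero => rw [pow_zero, pow_one]
    | succ m ih => rw [pow_succ, pow_mul, ih, key r hr]
  have h2 : 2 ≤ p ^ j := hp'.two_le.trans (Nat.le_self_pow (by omega) p)
  have hle : n ≤ (p ^ j) ^ n := (Nat.lt_pow_self (by omega)).le
  rw [← hit n, show (p ^ j) ^ n = n + ((p ^ j) ^ n - n) by omega, pow_add, hn, zero_mul]

/-- An element of order prime to `p` acts semisimply. -/
theorem semisimple_apply {u : (Module.End (ZMod p) V)ˣ} (hu : ¬ p ∣ orderOf u) {v : V}
    (h : ((u : Module.End (ZMod p) V) - 1) (((u : Module.End (ZMod p) V) - 1) v) = 0) :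
    (u : Module.End (ZMod p) V) v = v := by
  set w := ((u : Module.End (ZMod p) V) - 1) v with hw
  have huv : (u : Module.End (ZMod p) V) v = v + w := by simp [hw]
  have huw : (u : Module.End (ZMod p) V) w = w := by
    simpa [sub_eq_zero] using h
  have hpow : ∀ i : ℕ, ((u : Module.End (ZMod p) V) ^ i) v = v + i • w := by
    intro i
    induction i with
    | zero => simp
    | succ i ih => rw [pow_succ', Module.End.mul_apply, ih, map_add, map_nsmul, huv, huw, succ_nsmul]; abel
  have h1 := hpow (orderOf u)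
  rw [← Units.val_pow_eq_pow_val, pow_orderOf_eq_one, Units.val_one, Module.End.one_apply, left_eq_add,
    ← Nat.cast_smul_eq_nsmul (ZMod p)] at h1
  rcases smul_eq_zero.mp h1 with h2 | h2
  · exact absurd ((ZMod.natCast_eq_zero_iff _ p).mp h2) hu
  · rw [huv, h2, add_zero]

/-- A `p`-group of maps fixes a nonzero vector of every nonzero invariant subspace. -/
theorem exists_fixed {S : Subgroup (Module.End (ZMod p) V)ˣ} (hS : IsPGroup p ↥S) (W : Submodule (ZMod p) V)
    (hW : ∀ g ∈ S, ∀ w ∈ W, (g : Module.End (ZMod p) V) w ∈ W) (hne : W ≠ ⊥) :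
    ∃ w ∈ W, w ≠ 0 ∧ w ∈ fixSpace S := by
  letI : MulAction ↥S ↥W :=
    { smul := fun g w => ⟨((g : (Module.End (ZMod p) V)ˣ) : Module.End (ZMod p) V) w, hW g g.2 w w.2⟩
      one_smul := fun w => Subtype.ext (by
        show (((1 : ↥S) : (Module.End (ZMod p) V)ˣ) : Module.End (ZMod p) V) (w : V) = w
        simp)
      mul_smul := fun g h w => Subtype.ext (by
        show (((g * h : ↥S) : (Module.End (ZMod p) V)ˣ) : Module.End (ZMod p) V) (w : V) =
          ((g : (Module.End (ZMod p) V)ˣ) : Module.End (ZMod p) V)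
            (((h : (Module.End (ZMod p) V)ˣ) : Module.End (ZMod p) V) (w : V))
        simp [Module.End.mul_apply]) }
  have hdvd : p ∣ Nat.card ↥W := by
    haveI : Nontrivial ↥W := Submodule.nontrivial_iff_ne_bot.mpr hne
    rw [Module.natCard_eq_pow_finrank (K := ZMod p), Nat.card_zmod]
    exact dvd_pow_self p Module.finrank_pos.ne'
  obtain ⟨w, hw, hw0⟩ := hS.exists_fixed_point_of_prime_dvd_card_of_fixed_point (↥W) hdvd (a := 0)
    (fun g => Subtype.ext (map_zero _))
  exact ⟨w, w.2, fun h => hw0 (Subtype.ext h.symm), fun g hg => congrArg Subtype.val (hw ⟨g, hg⟩)⟩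

/-- Thompson's `A × B` lemma. -/
theorem eq_one_of_fixSpace {S : Subgroup (Module.End (ZMod p) V)ˣ} (hS : IsPGroup p ↥S)
    {x : (Module.End (ZMod p) V)ˣ} (hx : ¬ p ∣ orderOf x) (hcomm : ∀ g ∈ S, g * x = x * g)
    (htriv : ∀ v ∈ fixSpace S, (x : Module.End (ZMod p) V) v = v) : x = 1 := by
  by_contra h1
  set y := (x : Module.End (ZMod p) V) - 1 with hy
  have hne : LinearMap.range y ≠ ⊥ := fun h => h1 (Units.ext (sub_eq_zero.mp (LinearMap.range_eq_bot.mp h)))
  obtain ⟨w, ⟨u, rfl⟩, hw0, hwf⟩ := exists_fixed hS (LinearMap.range y) (fun g hg w hw => by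
    obtain ⟨u, rfl⟩ := hw
    refine ⟨(g : Module.End (ZMod p) V) u, ?_⟩
    have hc : (g : Module.End (ZMod p) V) * x = x * g := congrArg Units.val (hcomm g hg)
    rw [← Module.End.mul_apply, ← Module.End.mul_apply, hy, sub_mul, mul_sub, hc, one_mul, mul_one]) hne
  refine hw0 (sub_eq_zero.mpr (semisimple_apply hx ?_))
  show y (y u) = 0
  rw [hy, LinearMap.sub_apply, Module.End.one_apply, sub_eq_zero]
  exact htriv _ hwf

section Quadratic

variable {R : Type*} [Ring R]

theorem delta_mul {b : R} (hb : b * b = 0) (x y : R) :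
    (b * x - x * b) * (b * y - y * b) = b * x * b * y - b * (x * y) * b + x * (b * y * b) := by
  have : x * b * (b * y) = 0 := by rw [mul_assoc, ← mul_assoc b b, hb, zero_mul, mul_zero]
  simp only [sub_mul, mul_sub, mul_assoc] at *
  rw [this]; abel

theorem conj_expand {b : R} (x : R) :
    (1 + b) * x * (1 - b) = x + (b * x - x * b) - b * x * b := by noncomm_ring

end Quadratic

/-- Conjugation data of a quadratic map: both parts of the conjugate stay in an invariant subalgebra. -/
theorem quad_parts {W : Subalgebra (ZMod p) (Module.End (ZMod p) V)} (hp2 : p ≠ 2)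
    {b : (Module.End (ZMod p) V)ˣ} {β : Module.End (ZMod p) V} (hβ : β = (b : Module.End (ZMod p) V) - 1)
    (hq : β * β = 0) (hinv : ∀ x ∈ W, (b : Module.End (ZMod p) V) * x * ((b⁻¹ : _) : (Module.End (ZMod p) V)ˣ) ∈ W)
    {x : Module.End (ZMod p) V} (hx : x ∈ W) : β * x - x * β ∈ W ∧ β * x * β ∈ W := by
  have hb : (b : Module.End (ZMod p) V) = 1 + β := by rw [hβ]; abel
  have hbi : (((b⁻¹ : _) : (Module.End (ZMod p) V)ˣ) : Module.End (ZMod p) V) = 1 - β := by
    refine Units.inv_eq_of_mul_eq_one_right ?_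
    rw [hb, show (1 + β) * (1 - β) = 1 - β * β by noncomm_ring, hq, sub_zero]
  have h1 := hinv x hx
  have h2 := hinv _ h1
  rw [hb, hbi] at h2 h1
  have key : (2 : ZMod p) • (β * x - x * β) =
      (4 : ZMod p) • ((1 + β) * x * (1 - β)) - (1 + β) * ((1 + β) * x * (1 - β)) * (1 - β) - (3 : ZMod p) • x := by
    have e : (1 + β) * ((1 + β) * x * (1 - β)) * (1 - β) =
        (1 + β + β + β * β) * x * (1 - β - β + β * β) := by noncomm_ring
    rw [e, hq, show (4 : ZMod p) = ((4 : ℕ) : ZMod p) by norm_num, show (3 : ZMod p) = ((3 : ℕ) : ZMod p) by norm_num,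
      show (2 : ZMod p) = ((2 : ℕ) : ZMod p) by norm_num, Nat.cast_smul_eq_nsmul, Nat.cast_smul_eq_nsmul,
      Nat.cast_smul_eq_nsmul]
    noncomm_ring
  have h2ne : (2 : ZMod p) ≠ 0 := fun h0 => by
    have := (ZMod.natCast_eq_zero_iff 2 p).mp (by exact_mod_cast h0)
    exact hp2 ((Nat.prime_dvd_prime_iff_eq Fact.out Nat.prime_two).mp this)
  have hd : β * x - x * β ∈ W := by
    have h3 : (2 : ZMod p) • (β * x - x * β) ∈ W :=
      key ▸ sub_mem (sub_mem (W.smul_mem h1 _) h2) (W.smul_mem hx _)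
    have := W.smul_mem h3 ((2 : ZMod p)⁻¹)
    rwa [smul_smul, inv_mul_cancel₀ h2ne, one_smul] at this
  refine ⟨hd, ?_⟩
  have : β * x * β = x + (β * x - x * β) - (1 + β) * x * (1 - β) := by noncomm_ring
  rw [this]
  exact sub_mem (add_mem hx hd) h1

/-- The subalgebra of a normalized group is invariant. -/
theorem adjoin_invariant {T : Subgroup (Module.End (ZMod p) V)ˣ} {a : (Module.End (ZMod p) V)ˣ}
    (hn : ∀ t ∈ T, a * t * a⁻¹ ∈ T) :
    ∀ x ∈ Algebra.adjoin (ZMod p) ((fun u : (Module.End (ZMod p) V)ˣ => (u : Module.End (ZMod p) V)) '' (T : Set _)),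
      (a : Module.End (ZMod p) V) * x * ((a⁻¹ : _) : (Module.End (ZMod p) V)ˣ) ∈
        Algebra.adjoin (ZMod p) ((fun u : (Module.End (ZMod p) V)ˣ => (u : Module.End (ZMod p) V)) '' (T : Set _)) := by
  intro x hx
  induction hx using Algebra.adjoin_induction with
  | mem y hy =>
    obtain ⟨u, hu, rfl⟩ := hy
    exact Algebra.subset_adjoin ⟨_, hn u hu, by simp⟩
  | algebraMap c =>
    rw [← Algebra.commutes c, mul_assoc, Units.mul_inv, mul_one]; exact Subalgebra.algebraMap_mem _ c
  | add u w _ _ ihu ihw => rw [mul_add, add_mul]; exact add_mem ihu ihw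
  | mul u w _ _ ihu ihw =>
    have := mul_mem ihu ihw
    simpa [mul_assoc] using this

/-- For odd `p`, a quadratic map normalizing an abelian `p'`-group centralizes it. -/
theorem quad_centralizes {T : Subgroup (Module.End (ZMod p) V)ˣ} (hT : ∀ a ∈ T, ∀ b ∈ T, a * b = b * a)
    (hp : ¬ p ∣ Nat.card ↥T) (hp2 : p ≠ 2) {a : (Module.End (ZMod p) V)ˣ}
    (hq : ((a : Module.End (ZMod p) V) - 1) * ((a : Module.End (ZMod p) V) - 1) = 0)
    (hn : ∀ t ∈ T, a * t * a⁻¹ ∈ T) : ∀ t ∈ T, a * t = t * a := by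
  intro t ht
  set β := (a : Module.End (ZMod p) V) - 1 with hβ
  have hmem := Algebra.subset_adjoin (R := ZMod p)
    (Set.mem_image_of_mem (fun u : (Module.End (ZMod p) V)ˣ => (u : Module.End (ZMod p) V)) ht)
  set x := (t : Module.End (ZMod p) V) with hx
  have hd : ∀ z ∈ Algebra.adjoin (ZMod p) ((fun u : (Module.End (ZMod p) V)ˣ => (u : Module.End (ZMod p) V)) '' (T : Set _)),
      β * z - z * β ∈ _ ∧ β * z * β ∈ _ := fun z hz => quad_parts hp2 hβ hq (adjoin_invariant hn) hz
  have hf0 : ∀ z ∈ Algebra.adjoin (ZMod p) ((fun u : (Module.End (ZMod p) V)ˣ => (u : Module.End (ZMod p) V)) '' (T : Set _)),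
      β * z * β = 0 := fun z hz => eq_zero_of_pow_eq_zero hT hp (hd z hz).2 (n := 2) (by
        rw [pow_two, show β * z * β * (β * z * β) = β * z * (β * β) * (z * β) by noncomm_ring, hq]; simp)
  have h0 : β * x - x * β = 0 := eq_zero_of_pow_eq_zero hT hp (hd x hmem).1 (n := 2) (by
    rw [pow_two, delta_mul hq, hf0 x hmem, hf0 _ (mul_mem hmem hmem)]; simp)
  refine Units.ext ?_
  show (a : Module.End (ZMod p) V) * x = x * a
  rw [show (a : Module.End (ZMod p) V) = 1 + β by rw [hβ]; abel, mul_add, add_mul, one_mul, mul_one,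
    sub_eq_zero.mp h0]

/-- The four-term identity in characteristic two. -/
theorem four_term {W : Subalgebra (ZMod p) (Module.End (ZMod p) V)} (hp : p = 2)
    (hred : ∀ r ∈ W, r ^ 2 = 0 → r = 0) {α β : Module.End (ZMod p) V}
    (haa : α * α = 0) (hbb : β * β = 0) (hab : α * β = 0) (hba : β * α = 0)
    (ha : ∀ x ∈ W, (1 + α) * x * (1 + α) ∈ W) (hb : ∀ x ∈ W, (1 + β) * x * (1 + β) ∈ W)
    {x : Module.End (ZMod p) V} (hx : x ∈ W) :
    x + (1 + α) * x * (1 + α) + (1 + β) * x * (1 + β) + (1 + β) * ((1 + α) * x * (1 + α)) * (1 + β) = 0 := by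
  subst hp
  have two : ∀ z : Module.End (ZMod 2) V, z + z = 0 := fun z => by
    rw [← two_smul (ZMod 2) z, show (2 : ZMod 2) = 0 from rfl, zero_smul]
  have hmem : x + (1 + α) * x * (1 + α) + (1 + β) * x * (1 + β) + (1 + β) * ((1 + α) * x * (1 + α)) * (1 + β) ∈ W :=
    add_mem (add_mem (add_mem hx (ha x hx)) (hb x hx)) (hb _ (ha x hx))
  have heq : x + (1 + α) * x * (1 + α) + (1 + β) * x * (1 + β) + (1 + β) * ((1 + α) * x * (1 + α)) * (1 + β) =
      β * x * α + α * x * β := by
    have e : (1 + β) * ((1 + α) * x * (1 + α)) * (1 + β) = (1 + α + β + β * α) * x * (1 + α + β + α * β) := by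
      noncomm_ring
    rw [e, hab, hba, ← sub_eq_zero]
    have : x + (1 + α) * x * (1 + α) + (1 + β) * x * (1 + β) + (1 + α + β + 0) * x * (1 + α + β + 0) -
        (β * x * α + α * x * β) =
        (x + x) + (x + x) + ((α * x + α * x) + (x * α + x * α) + (α * x * α + α * x * α) +
          (β * x + β * x) + (x * β + x * β) + (β * x * β + β * x * β)) := by noncomm_ring
    rw [this]; simp only [two, add_zero]
  refine hred _ hmem ?_
  rw [heq, pow_two]
  have : (β * x * α + α * x * β) * (β * x * α + α * x * β) =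
      β * x * (α * β) * x * α + β * x * (α * α) * x * β + α * x * (β * β) * x * α + α * x * (β * α) * x * β := by
    noncomm_ring
  rw [this, hab, haa, hbb, hba]; simp

end CfsgLib.PGV
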