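import Cfsg.Agent.Lib.PGV.Odd
import Cfsg.Agent.S0199

/-!
The pieces of the `P(G,V)`-theorem particular to transvection-like swaps and inverted elements.
-/

set_option autoImplicit false

namespace CfsgLib.PGV

universe v

section Inverted

variable {U : Type v} [Group U] [Finite U]

/-- An involution acting nontrivially on `K` inverts a noncentral element of odd order. -/
theorem exists_inverted {A K : Subgroup U} (hc : Conf 2 A K) {b : U} (hbA : b ∈ A)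
    (hb : b ∈ Subgroup.normalizer (K : Set U)) (hnc : ¬ ∀ x ∈ K, b * x = x * b) :
    ∃ k ∈ K, ¬ 2 ∣ orderOf k ∧ b * k * b⁻¹ = k⁻¹ ∧ ¬ ∀ y ∈ K, k * y = y * k := by
  haveI : Fact (Nat.Prime 2) := ⟨Nat.prime_two⟩
  have hKN : K ≤ Subgroup.normalizer (K : Set U) := Subgroup.le_normalizer
  have hbinv : b⁻¹ = b := inv_eq_of_mul_eq_one_right (by rw [← pow_two]; exact hc.exp b hbA)
  let ψ := K.normalizerMonoidHom
  have hψ : ∀ (g : ↥(Subgroup.normalizer (K : Set U))) (x : ↥K), ((ψ g x : ↥K) : U) = g * x * (g : U)⁻¹ :=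
    fun g x => rfl
  have hψc : ∀ (g : ↥(Subgroup.normalizer (K : Set U))), ψ g = 1 ↔ ∀ x ∈ K, (g : U) * x = x * g := by
    intro g
    constructor
    · intro h x hx
      have := congrArg Subtype.val (DFunLike.congr_fun h (⟨x, hx⟩ : ↥K))
      rw [hψ] at this
      exact mul_inv_eq_iff_eq_mul.mp this
    · intro h
      refine MulEquiv.ext fun x => Subtype.ext ?_
      rw [hψ, h x x.2, mul_inv_cancel_right]; rfl
  by_contra hcon
  push Not at hcon
  set M := (((K ⊔ Subgroup.zpowers b).subgroupOf (Subgroup.normalizer (K : Set U))).map ψ) with hM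
  have hle : K ⊔ Subgroup.zpowers b ≤ (Subgroup.normalizer (K : Set U)) := sup_le hKN (Subgroup.zpowers_le.mpr hb)
  have hbM : ψ ⟨b, hb⟩ ∈ M := ⟨⟨b, hb⟩, Subgroup.mem_sup_right (Subgroup.mem_zpowers b), rfl⟩
  have hpow : ∀ x, ∀ hx : x ∈ K, ∃ j, ψ (⟨b, hb⟩ * (⟨x, hKN hx⟩ * ⟨b, hb⟩ * (⟨x, hKN hx⟩)⁻¹)) ^ 2 ^ j = 1 := by
    intro x hx
    set c := b * (x * b * x⁻¹) with hc'
    have hcK : c ∈ K := by
      have h := mul_mem ((Subgroup.mem_normalizer_iff.mp hb x).mp hx) (inv_mem hx)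
      rwa [hbinv, show b * x * b * x⁻¹ = c by rw [hc']; group] at h
    have hcb : b * c * b⁻¹ = c⁻¹ := by
      rw [hc', mul_inv_rev, mul_inv_rev, mul_inv_rev, hbinv, inv_inv, ← mul_assoc, ← pow_two, hc.exp b hbA]
      group
    have hn : orderOf c ≠ 0 := (orderOf_pos c).ne'
    set j := (orderOf c).factorization 2
    refine ⟨j, ?_⟩
    have hodd : ¬ 2 ∣ orderOf (c ^ 2 ^ j) := by
      rw [orderOf_pow' _ (Nat.ordProj_pos _ _).ne', Nat.gcd_eq_right (Nat.ordProj_dvd _ _)]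
      exact Nat.not_dvd_ordCompl Nat.prime_two hn
    have hinv : b * c ^ 2 ^ j * b⁻¹ = (c ^ 2 ^ j)⁻¹ := by rw [← conj_pow, hcb, inv_pow]
    have hcen := hcon (c ^ 2 ^ j) (pow_mem hcK _) hodd hinv
    rw [← map_pow, hψc]
    intro y hy
    rw [SubgroupClass.coe_pow]
    exact hcen y hy
  have hgrp : ∀ g : ↥M, IsPGroup 2 ↥(Subgroup.zpowers (⟨_, hbM⟩ : ↥M) ⊔
      (Subgroup.zpowers (⟨_, hbM⟩ : ↥M)).map (MulAut.conj g).toMonoidHom) := by
    intro g
    set bb : ↥M := ⟨_, hbM⟩ with hbb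
    rw [MonoidHom.map_zpowers]
    set b2 := (MulAut.conj g).toMonoidHom bb with hb2
    have hbb1 : bb * bb = 1 := Subtype.ext (show ψ ⟨b, hb⟩ * ψ ⟨b, hb⟩ = 1 by
      rw [← map_mul, show (⟨b, hb⟩ : ↥(Subgroup.normalizer (K : Set U))) * ⟨b, hb⟩ = 1 from Subtype.ext (by
        show b * b = 1
        rw [← pow_two]; exact hc.exp b hbA), map_one])
    have hb21 : b2 * b2 = 1 := by rw [hb2, ← map_mul, hbb1, map_one]
    obtain ⟨n, hn, hng⟩ := g.2
    obtain ⟨x, hx, w, hw, hxw⟩ : ∃ x ∈ K, ∃ w ∈ Subgroup.zpowers b, x * w = (n : U) := by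
      have h0 : (n : U) ∈ ((K ⊔ Subgroup.zpowers b : Subgroup U) : Set U) := hn
      rw [Subgroup.coe_mul_of_right_le_normalizer_left K _ (Subgroup.zpowers_le.mpr hb)] at h0
      exact Set.mem_mul.mp h0
    have hwb : w * b * w⁻¹ = b := by
      obtain ⟨i, rfl⟩ := Subgroup.mem_zpowers_iff.mp hw
      group
    obtain ⟨j, hj⟩ := hpow x hx
    have hcc : IsPGroup 2 ↥(Subgroup.zpowers (bb * b2)) := by
      refine IsPGroup.of_card_dvd_pow (n := j) ?_
      rw [Nat.card_zpowers]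
      refine orderOf_dvd_of_pow_eq_one (Subtype.ext ?_)
      rw [SubgroupClass.coe_pow]
      refine Eq.trans ?_ hj
      congr 1
      show ψ ⟨b, hb⟩ * ((g : MulAut ↥K) * ψ ⟨b, hb⟩ * (g : MulAut ↥K)⁻¹) = _
      rw [← hng, ← map_inv, ← map_mul, ← map_mul, ← map_mul]
      refine congrArg ψ (Subtype.ext ?_)
      show b * ((n : U) * b * (n : U)⁻¹) = b * (x * b * x⁻¹)
      rw [← hxw, mul_inv_rev, show x * w * b * (w⁻¹ * x⁻¹) = x * (w * b * w⁻¹) * x⁻¹ by group, hwb]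
    have hb2inv : bb⁻¹ = bb := inv_eq_of_mul_eq_one_right hbb1
    have h2 : IsPGroup 2 ↥(Subgroup.zpowers bb) := by
      refine IsPGroup.of_card_dvd_pow (n := 1) ?_
      rw [Nat.card_zpowers]
      exact orderOf_dvd_of_pow_eq_one (by rw [pow_one, pow_two, hbb1])
    have hn' : Subgroup.zpowers bb ≤ Subgroup.normalizer (Subgroup.zpowers (bb * b2) : Set ↥M) := by
      rw [Subgroup.zpowers_le]
      refine mem_normalizer_of_conj_mem fun y hy => ?_
      obtain ⟨i, rfl⟩ := Subgroup.mem_zpowers_iff.mp hy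
      rw [← conj_zpow, show bb * (bb * b2) * bb⁻¹ = (bb * b2)⁻¹ by
        rw [← mul_assoc, hbb1, one_mul, mul_inv_rev, inv_eq_of_mul_eq_one_right hb21], inv_zpow]
      exact inv_mem (zpow_mem (Subgroup.mem_zpowers _) i)
    refine (h2.to_sup_of_normal_right' hcc hn').to_le (sup_le le_sup_left (Subgroup.zpowers_le.mpr ?_))
    have : b2 = bb * (bb * b2) := by rw [← mul_assoc, hbb1, one_mul]
    have h3 : bb * (bb * b2) ∈ Subgroup.zpowers bb ⊔ Subgroup.zpowers (bb * b2) :=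
      mul_mem (Subgroup.mem_sup_left (Subgroup.mem_zpowers _)) (Subgroup.mem_sup_right (Subgroup.mem_zpowers _))
    rwa [← this] at h3
  obtain ⟨P, hPn, hP2, hPb⟩ := Cfsg.Agent.S0199.result (Subgroup.zpowers (⟨_, hbM⟩ : ↥M))
    (IsPGroup.of_card_dvd_pow (n := 1) (by
      rw [Nat.card_zpowers]
      refine orderOf_dvd_of_pow_eq_one (Subtype.ext (?_ : ψ ⟨b, hb⟩ ^ (2 ^ 1) = 1))
      rw [pow_one, ← map_pow, show (⟨b, hb⟩ : ↥(Subgroup.normalizer (K : Set U))) ^ 2 = 1 from Subtype.ext (hc.exp b hbA), map_one])) hgrp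
  let L : Subgroup U :=
    ((((P.map M.subtype).comap ψ).map (Subgroup.normalizer (K : Set U)).subtype) ⊓ K)
  have hmemL : ∀ {y : U}, y ∈ L ↔ ∃ hy : y ∈ K, ψ ⟨y, hKN hy⟩ ∈ P.map M.subtype := by
    intro y
    constructor
    · rintro ⟨⟨z, hz, rfl⟩, hy⟩; exact ⟨hy, hz⟩
    · rintro ⟨hy, h⟩; exact ⟨⟨⟨y, hKN hy⟩, h, rfl⟩, hy⟩
  have hKM : ∀ {y : U} (hy : y ∈ K), ψ ⟨y, hKN hy⟩ ∈ M := fun hy => ⟨_, Subgroup.mem_sup_left hy, rfl⟩
  rcases hc.norm L inf_le_right (by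
    intro k hk y hy
    obtain ⟨hyK, q, hq, hqy⟩ := hmemL.mp hy
    refine hmemL.mpr ⟨mul_mem (mul_mem hk hyK) (inv_mem hk), ⟨(⟨_, hKM hk⟩ : ↥M) * q * (⟨_, hKM hk⟩ : ↥M)⁻¹,
      hPn.conj_mem q hq _, ?_⟩⟩
    rw [map_mul, map_mul, map_inv, show M.subtype q = _ from hqy]
    show ψ ⟨k, _⟩ * ψ ⟨y, _⟩ * (ψ ⟨k, _⟩)⁻¹ = _
    rw [← map_inv, ← map_mul, ← map_mul]; rfl) with hL | hL
  · let f : ↥K →* MulAut ↥K := ψ.comp (Subgroup.inclusion hKN)
    have hr : IsPGroup 2 ↥f.range := by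
      refine (hP2.map M.subtype).to_le ?_
      rintro _ ⟨y, rfl⟩
      exact (hmemL.mp (hL.symm ▸ y.2)).2
    have hker : f.ker ≤ Subgroup.center ↥K := fun y hy =>
      Subgroup.mem_center_iff.mpr fun z => Subtype.ext ((hψc (Subgroup.inclusion hKN y)).mp (MonoidHom.mem_ker.mp hy) z z.2).symm
    haveI : Group.IsNilpotent ↥f.range := hr.isNilpotent
    haveI : Group.IsNilpotent ↥K := Subgroup.isNilpotent_of_ker_le_center f.rangeRestrict
      (by rw [MonoidHom.ker_rangeRestrict]; exact hker)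
    exact perfect_ne_of_solvable hc.perfect hc.ne inferInstance
  · refine hnc (hc.centralize_of_central hb fun x hx => hL _ (hmemL.mpr ⟨?_, ?_⟩))
    · exact mul_mem ((Subgroup.mem_normalizer_iff.mp hb x).mp hx) (inv_mem hx)
    · have hbP : (⟨ψ ⟨b, hb⟩, hbM⟩ : ↥M) ∈ P := hPb (Subgroup.mem_zpowers _)
      refine ⟨⟨ψ ⟨b, hb⟩, hbM⟩ * ((⟨_, hKM hx⟩ : ↥M) * (⟨ψ ⟨b, hb⟩, hbM⟩ : ↥M)⁻¹ * (⟨_, hKM hx⟩ : ↥M)⁻¹),
        mul_mem hbP (hPn.conj_mem _ (inv_mem hbP) _), ?_⟩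
      simp only [map_mul, map_inv, Subgroup.coe_subtype]
      rw [← map_inv ψ, ← map_inv ψ, ← map_mul ψ, ← map_mul ψ, ← map_mul ψ]
      refine congrArg ψ (Subtype.ext ?_)
      show b * (x * b⁻¹ * x⁻¹) = b * x * b⁻¹ * x⁻¹
      group

end Inverted

section Linear

variable {V : Type v} [AddCommGroup V] [Module (ZMod 2) V] [Finite V]

theorem two_eq {g : (Module.End (ZMod 2) V)ˣ} : (g : Module.End (ZMod 2) V) = 1 + ((g : Module.End (ZMod 2) V) - 1) := by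
  abel

theorem add_self_end (z : Module.End (ZMod 2) V) : z + z = 0 := by
  rw [← two_smul (ZMod 2) z, show (2 : ZMod 2) = 0 from rfl, zero_smul]

theorem add_self_vec (z : V) : z + z = 0 := by
  rw [← two_smul (ZMod 2) z, show (2 : ZMod 2) = 0 from rfl, zero_smul]

theorem sub_eq_add_end (y z : Module.End (ZMod 2) V) : y - z = y + z := by
  rw [sub_eq_add_neg, neg_eq_of_add_eq_zero_right (add_self_end z)]

theorem sq_fix {k : (Module.End (ZMod 2) V)ˣ} (hodd : ¬ 2 ∣ orderOf k) {v : V}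
    (h : ((k : Module.End (ZMod 2) V) * k) v = v) : (k : Module.End (ZMod 2) V) v = v := by
  haveI : Fact (Nat.Prime 2) := ⟨Nat.prime_two⟩
  refine semisimple_apply hodd ?_
  rw [sub_eq_add_end, ← Module.End.mul_apply,
    show ((k : Module.End (ZMod 2) V) + 1) * ((k : Module.End (ZMod 2) V) + 1) = (k : Module.End (ZMod 2) V) * k +
      ((k : Module.End (ZMod 2) V) + (k : Module.End (ZMod 2) V)) + 1 by noncomm_ring,
    add_self_end, add_zero, LinearMap.add_apply, h, Module.End.one_apply, add_self_vec]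

end Linear

end CfsgLib.PGV
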